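import Cfsg.Agent.FusSys.EBal.FixZ
import Cfsg.Agent.FusSys.Component.NormalizerConstrained
import Cfsg.Agent.FusSys.ResidualNormal
import Cfsg.Agent.FusSys.CentSys
import Cfsg.Agent.S5148

/-!
Two cases of the balance of components: the component centralizes the layer, or the subgroup lies
in `O_p(F)`.
-/

set_option autoImplicit false
set_option linter.unusedSectionVars false
set_option linter.style.haveILetI false
set_option linter.unusedVariables false
set_option maxHeartbeats 400000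

namespace Cfsg.Agent.FusSys.EBal

open Cfsg Cfsg.FusionSystem Cfsg.Agent.FusSys Cfsg.Agent.FusSys.Component Cfsg.Agent.FusSys.CentE
open scoped Pointwise

universe u

variable {Ω : Type u} [Group Ω] {S T U X K : Subgroup Ω} {F : FusionSystem S}
variable {E : FusionSystem T} {p : ℕ}

/-- A subgroup of its own centralizer is abelian. -/
theorem commutative_of_centralizes {A : Subgroup Ω} (h : A ≤ K) (hc : A ≤ centralizerIn S K) :
    IsMulCommutative A :=
  ⟨⟨fun a b => Subtype.ext ((Subgroup.mem_centralizer_iff.1 (hc b.2).2 a (h a.2)))⟩⟩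

/-- No quasisimple subsystem centralizes both the layer and `O_p(F)`. -/
theorem false_of_centralizes [Fact p.Prime] [Finite S] (hS : IsPGroup p S) (hF : F.IsSaturated p)
    (hE : E.IsLayerOf F p) {C : FusionSystem U} (hq : C.Quasisimple p)
    (hC : ∀ P f, Mor C P f → Mor (centralizerSys F hE.1.1.2.2.2.1.1) P f)
    (hQ : U ≤ centralizerIn S F.core) : False := by
  have hTc := hE.1.1.2.2.2.1
  haveI := finite_of_le (hQ.trans (centralizerIn_le S F.core))
  have hUp : IsPGroup p U := hS.to_le (hQ.trans (centralizerIn_le S F.core))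
  have hUY : U ≤ cE E F p hTc.1 := by
    refine le_trans ?_ (cFoc_le_cE hS hF hE.1 hTc)
    refine le_trans hq.2.1.ge ((Subgroup.closure_le _).2 ?_)
    rintro _ ⟨P, α, x, hP, -, rfl⟩
    rw [← apl_coe]
    exact quot_mem_focal (hC P _ (iso_apl hP α.2).1) x.2
  obtain ⟨D, hD, -⟩ := exists_centralizer_subsystem hS hF hE.1 hTc
  have hYS := hD.1.2.2.2.1.1
  haveI := finite_of_le hYS
  have hDc : D.IsConstrained p := by
    refine (constrained_iff_no_component (hS.to_le hYS) hD.1.1).2 ?_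
    rintro ⟨U', C', hC'⟩
    have hU'Y : U' ≤ cE E F p hTc.1 := subnormal_le hC'.1
    have hU'T : U' ≤ T := (isSubsystemOf_iff_mor.1
      (hE.2.1 U' C' ⟨.step hC'.1 hD, hC'.2⟩) U' id (mor_id le_rfl)).le
    haveI := finite_of_le (hU'Y.trans hYS)
    exact Cfsg.Agent.S5148.result p (hS.to_le (hU'Y.trans hYS)) C' hC'.2
      (commutative_of_centralizes hU'T (hU'Y.trans (cE_le _)))
  have hle : D.core ≤ F.core := core_le hS hD.1
  have hUQ : U ≤ F.core := fun u hu => hle (core_centralizer_le hDc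
    ⟨hUY hu, Subgroup.centralizer_le hle (hQ hu).2⟩)
  exact Cfsg.Agent.S5148.result p hUp C hq (commutative_of_centralizes hUQ hQ)

/-- A strongly closed subgroup whose normalizing part lies in `X` lies in `X`. -/
theorem le_of_normalizer_le [Fact p.Prime] [Finite S] (hS : IsPGroup p S) (hX : X ≤ S)
    (hK : F.StronglyClosed K) (h : K ⊓ normalizerIn S X ≤ X) : K ≤ X := by
  by_contra hne
  have hlt : X < X ⊔ K := lt_of_le_of_ne le_sup_left fun e => hne (le_sup_right.trans e.ge)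
  obtain ⟨z, hz, hzX⟩ := SetLike.exists_of_lt (lt_inf_normalizer hS (sup_le hX hK.1) hlt)
  obtain ⟨hzW, hzn⟩ := hz
  have hXK : X ≤ Subgroup.normalizer (K : Set Ω) := fun x hx =>
    StronglyClosed.le_normalizer hK (hX hx)
  have hzW' : z ∈ (X : Set Ω) * (K : Set Ω) := by
    rw [← Subgroup.coe_mul_of_left_le_normalizer_right X K hXK]
    exact hzW
  obtain ⟨x, hx, t, ht, rfl⟩ := hzW'
  have htn : t ∈ Subgroup.normalizer (X : Set Ω) := by
    have h1 := mul_mem (inv_mem (Subgroup.le_normalizer hx)) hzn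
    rwa [inv_mul_cancel_left] at h1
  exact hzX (X.mul_mem hx (h ⟨ht, hK.1 ht, htn⟩))

/-- Automorphisms of order prime to `p` fixing the part of `Q` normalizing `X ≤ Q` fix `Q`. -/
theorem exists_fix_core [Fact p.Prime] [Finite S] (hS : IsPGroup p S) {Q R : Subgroup Ω}
    (hQ : F.IsNormal Q) (hXQ : X ≤ Q) {γ : MulAut R} (hco : (orderOf γ).Coprime p) {k : Ω → Ω}
    (hk : Mor F (R ⊔ (Q ⊓ normalizerIn S X)) k) (hkx : ∀ x ∈ R, k x = apl γ x)
    (hkf : ∀ a ∈ Q ⊓ normalizerIn S X, k a = a) :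
    ∃ g, Mor F (R ⊔ Q) g ∧ (∀ x ∈ R, g x = apl γ x) ∧ ∀ q ∈ Q, g q = q := by
  obtain ⟨g, hg, hgk, hgQ⟩ := (isNormal_iff.1 hQ).2 _ k hk
  have hle : R ⊔ Q ≤ R ⊔ (Q ⊓ normalizerIn S X) ⊔ Q := sup_le_sup_right le_sup_left Q
  have hm := hg.mono hle
  have hW : R ⊔ Q ≤ S := hm.le
  haveI := finite_of_le hW
  haveI : Finite (MulAut ↥(R ⊔ Q)) := Finite.of_injective _ MulEquiv.toEquiv_injective
  have hgR : ∀ x ∈ R, g x = apl γ x := fun x hx => by
    rw [hgk x (Subgroup.mem_sup_left hx), hkx x hx]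
  have hst : ∀ y ∈ R ⊔ Q, g y ∈ R ⊔ Q := fun y hy => hm.mem_of_sup
    (fun a ha => Subgroup.mem_sup_left (by rw [hgR a ha]; exact apl_mem γ ha))
    (fun a ha => Subgroup.mem_sup_right ((hgQ _).2 ⟨a, ha, rfl⟩)) hy
  obtain ⟨β, hβ, hβg⟩ := (AM.iso_of_stable hm hst).exists_mem_autGroup
  obtain ⟨β', hβ', hβ'z, hβ'co, hβ'x⟩ := AM.exists_coprime_ext (P := R) le_sup_left hβ
    (fun y hy => by rw [hβg y (Subgroup.mem_sup_left hy), hgR y hy]) hco
  have hfix : ∀ a ∈ Q ⊓ normalizerIn S X, apl β a = a := fun a ha => by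
    rw [hβg a (Subgroup.mem_sup_right ha.1), hgk a (Subgroup.mem_sup_right ha), hkf a ha]
  obtain ⟨n, rfl⟩ := mem_powers_iff_mem_zpowers.2 hβ'z
  have hpow : ∀ m : ℕ, ∀ a ∈ Q ⊓ normalizerIn S X, apl (β ^ m) a = a := by
    intro m
    induction m with
    | zero => intro a ha; rw [pow_zero]; exact apl_one (Subgroup.mem_sup_right ha.1)
    | succ m ih =>
      intro a ha
      rw [pow_succ', apl_mul _ _ (Subgroup.mem_sup_right ha.1), ih a ha, hfix a ha]
  have hXN : X ≤ normalizerIn S X := le_normalizerIn (hXQ.trans hQ.1)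
  refine ⟨apl (β ^ n), (iso_apl hW hβ').1, hβ'x, fun q hq => ?_⟩
  refine fixes_of_fixes_normalizer (hS.to_le hW) hβ'co (hXQ.trans le_sup_right) le_sup_right
    (hXQ.trans Subgroup.le_normalizer)
    (fun r hr => StronglyClosed.mor_mem (stronglyClosed_of_isNormal hQ) (iso_apl hW hβ').1
      (Subgroup.mem_sup_right hr) hr)
    (fun x hx => hpow n x ⟨hXQ hx, hXN hx⟩)
    (fun r hr hrn => hpow n r ⟨hr, hQ.1 hr, hrn⟩) q hq

/-- A component of `N_F(X)` for `X ≤ O_p(F)` lies over the layer. -/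
theorem le_of_core [Fact p.Prime] [Finite S] (hS : IsPGroup p S) (hF : F.IsSaturated p)
    (hE : E.IsLayerOf F p) (hX : F.IsFullyNormalized X) (hXQ : X ≤ F.core)
    {N : FusionSystem (normalizerIn S X)} (hN : F.IsNormalizerSystem X N) {C : FusionSystem U}
    (hC : C.IsComponentIn N p) {Z : Subgroup Ω} (hQZ : F.core ⊓ normalizerIn S X ≤ Z)
    {hZ : Z ≤ normalizerIn S X} (hCZ : ∀ P f, Mor C P f → Mor (centralizerSys N hZ) P f) :
    U ≤ T := by
  have hQ : F.IsNormal F.core := isNormal_core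
  have hUN : U ≤ normalizerIn S X := subnormal_le hC.1
  have hUS : U ≤ S := hUN.trans inf_le_left
  haveI := finite_of_le hUS
  haveI : Finite (normalizerIn S X) := finite_of_le inf_le_left
  have hSN : IsPGroup p (normalizerIn S X) := hS.to_le inf_le_left
  obtain ⟨Q, hQd⟩ : ∃ Q, Q = F.core := ⟨_, rfl⟩
  have hUC : U ≤ centralizerIn S Q := by
    refine le_trans hC.2.2.1.ge ((Subgroup.closure_le _).2 ?_)
    rintro _ ⟨R, α, x, hR, hα, rfl⟩
    haveI := finite_of_le (hR.trans hUS)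
    rw [← apl_coe]
    let K : Subgroup (MulAut R) :=
      { carrier := {β | ∀ x ∈ R, x⁻¹ * apl β x ∈ centralizerIn S Q}
        one_mem' := fun x hx => by rw [apl_one hx, inv_mul_cancel]; exact one_mem _
        mul_mem' := fun {β γ} hβ hγ x hx => by
          rw [apl_mul _ _ hx]
          have h := mul_mem (hγ x hx) (hβ _ (apl_mem γ hx))
          rwa [mul_assoc, mul_inv_cancel_left] at h
        inv_mem' := fun {β} hβ x hx => by
          have h := Subgroup.inv_mem _ (hβ _ (apl_mem β⁻¹ hx))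
          rwa [apl_apl_inv β hx, mul_inv_rev, inv_inv] at h }
    refine ProdS.residual_le_iff hR (K := K) (fun γ hγ hco y hy => ?_) ⟨α, hα, rfl⟩ x x.2
    obtain ⟨-, -, -, k, hk, hkx, hkf⟩ :=
      (mor_centralizerSystem (isCentralizerSystem_centralizerSys hZ)).1 (hCZ R _ (iso_apl hR hγ).1)
    have hkF : Mor F (R ⊔ Z) k := ((mor_normalizerSystem hN).1 hk).1
    obtain ⟨g, hg, hgx, hgf⟩ := exists_fix_core hS hQ hXQ hco
      (hkF.mono (sup_le_sup_left hQZ R)) hkx fun a ha => hkf a (hQZ ha)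
    have hyS : y ∈ S := hUS (hR hy)
    refine ⟨S.mul_mem (S.inv_mem hyS) (hUS (hR (apl_mem γ hy))),
      Subgroup.mem_centralizer_iff.2 fun q hq => ?_⟩
    have hqQ : q ∈ F.core := hQd ▸ hq
    have hyq : y * q * y⁻¹ ∈ F.core := isStronglyClosed_normal (stronglyClosed_of_isNormal hQ) hyS hqQ
    have h1 : apl γ y * q * (apl γ y)⁻¹ = y * q * y⁻¹ := by
      have h2 := hg.map_conj (Subgroup.mem_sup_left hy) (Subgroup.mem_sup_right hqQ)
      rw [hgf _ hyq, hgx y hy, hgf q hqQ] at h2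
      exact h2.symm
    calc q * (y⁻¹ * apl γ y) = y⁻¹ * (y * q * y⁻¹) * apl γ y := by group
      _ = y⁻¹ * (apl γ y * q * (apl γ y)⁻¹) * apl γ y := by rw [h1]
      _ = y⁻¹ * apl γ y * q := by group
  subst hQd
  have hCQ := centSys_normal hS hF hQ
  have hmor := fun {P : Subgroup Ω} {f : Ω → Ω} => mor_centralizerSystem (F := F) (P := P) (f := f)
    (isCentralizerSystem_centralizerSys (F := F) hQ.1)
  have hcN : ∀ v ∈ centralizerIn S F.core, v ∈ normalizerIn S X := fun v hv =>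
    ⟨hv.1, Subgroup.centralizer_le_normalizer _ (Subgroup.centralizer_le hXQ hv.2)⟩
  have hsubN : (centralizerSys F hQ.1).IsSubsystemOf N := isSubsystemOf_iff_mor.2 fun P f hf => by
    obtain ⟨h, hP, hPf, k, hk, hkf, hkQ⟩ := hmor.1 hf
    exact (mor_normalizerSystem hN).2 ⟨h, fun x hx => hcN x (hP hx), fun x hx => hcN _ (hPf x hx), k,
      hk.mono (sup_le_sup_left hXQ P), hkf,
      fun y => ⟨fun hy => ⟨y, hy, hkQ y (hXQ hy)⟩, fun ⟨x, hx, e⟩ => e ▸ (hkQ x (hXQ hx)).symm ▸ hx⟩⟩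
  have hw : (centralizerSys F hQ.1).IsWeaklyNormalIn N p :=
    ⟨hCQ.1.1, normalizerSystem_saturated hS hF hX hN, AutT.invariant_of_le hS hCQ.1.2.2
      (normalizerSystem_saturated hS hF hX hN)
      (isSubsystemOf_iff_mor.2 fun P f hf => ((mor_normalizerSystem hN).1 hf).1) hsubN⟩
  haveI := finite_of_le (centralizerIn_le S F.core)
  have hRN := pPrimeResidual_normal hSN hw
  have hRF := pPrimeResidual_normal hS hCQ.1
  have hcomp := component_of_le hC.1 hSN hC.2 _ _ hRN hUC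
  exact (isSubsystemOf_iff_mor.1 (hE.2.1 U C ⟨.step hcomp.1 hRF, hcomp.2⟩) U id (mor_id le_rfl)).le

end Cfsg.Agent.FusSys.EBal
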