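import Cfsg.Agent.FusSys.Component.Commute
import Cfsg.Agent.FusSys.ProdS.PPow
import Cfsg.Agent.FusSys.KNorm
import Cfsg.Agent.FusSys.AutTSteps

/-!
A component outside a normal subsystem over `B` centralizes the join of `B` and every normal
subgroup, and is a component of the normalizer system of that join.
-/

set_option autoImplicit false
set_option linter.unusedSectionVars false
set_option linter.style.haveILetI false
set_option linter.unusedVariables false
set_option maxHeartbeats 400000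

namespace Cfsg.Agent.FusSys.EBal

open Cfsg Cfsg.FusionSystem Cfsg.Agent.FusSys Cfsg.Agent.FusSys.Component Cfsg.Agent.FusSys.CentE
open scoped Pointwise

universe u

variable {Ω : Type u} [Group Ω] {S U V A B Z : Subgroup Ω} {F : FusionSystem S}
variable {D : FusionSystem V} {p : ℕ}

/-- Automorphisms of order prime to `p` extend to fix `Z`. -/
theorem coprime_fix [Fact p.Prime] [Finite S] {T P : Subgroup Ω} (h : Sep p F D T) {γ : MulAut P}
    (hf : Mor D P (apl γ)) (hco : (orderOf γ).Coprime p) :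
    ∃ k, Mor F (P ⊔ T) k ∧ (∀ x ∈ P, k x = apl γ x) ∧ ∀ t ∈ T, k t = t := by
  obtain ⟨-, k, hk, hkf, hkA, hkT⟩ := h.tmod_all P _ hf
  have hWS := hk.le
  haveI := finite_of_le hWS
  have hst : ∀ y ∈ P ⊔ T, k y ∈ P ⊔ T := fun y hy => hk.mem_of_sup
    (fun a ha => Subgroup.mem_sup_left (by rw [hkf a ha]; exact apl_mem γ ha))
    (fun a ha => Subgroup.mem_sup_right
      (StronglyClosed.mor_mem h.scT hk (Subgroup.mem_sup_right ha) ha)) hy
  haveI : Finite (MulAut ↥(P ⊔ T)) := Finite.of_injective _ MulEquiv.toEquiv_injective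
  obtain ⟨β, hβ, hβk⟩ := (AM.iso_of_stable hk hst).exists_mem_autGroup
  obtain ⟨β', hβ', hβ'z, hβ'co, hβ'x⟩ := AM.exists_coprime_ext (P := P) le_sup_left hβ
    (fun y hy => by rw [hβk y (Subgroup.mem_sup_left hy), hkf y hy]) hco
  have hA : ∀ a ∈ V ⊓ T, apl β a = a := fun a ha => by
    rw [hβk a (Subgroup.mem_sup_right ha.2), hkA a ha]
  have hT1 : ∀ t ∈ T, t⁻¹ * apl β t ∈ V ⊓ T := fun t ht => by
    rw [hβk t (Subgroup.mem_sup_right ht)]
    exact ⟨hkT t ht, T.mul_mem (T.inv_mem ht)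
      (StronglyClosed.mor_mem h.scT hk (Subgroup.mem_sup_right ht) ht)⟩
  have hpow : ∀ n : ℕ, (∀ a ∈ V ⊓ T, apl (β ^ n) a = a) ∧
      ∀ t ∈ T, t⁻¹ * apl (β ^ n) t ∈ V ⊓ T := by
    intro n
    induction n with
    | zero =>
      refine ⟨fun a ha => ?_, fun t ht => ?_⟩
      · rw [pow_zero]; exact apl_one (Subgroup.mem_sup_right ha.2)
      · rw [pow_zero, apl_one (Subgroup.mem_sup_right ht), inv_mul_cancel]; exact one_mem _
    | succ n ih =>
      refine ⟨fun a ha => ?_, fun t ht => ?_⟩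
      · rw [pow_succ', apl_mul _ _ (Subgroup.mem_sup_right ha.2), ih.1 a ha, hA a ha]
      · have htW : t ∈ P ⊔ T := Subgroup.mem_sup_right ht
        have hu : apl (β ^ n) t ∈ T := by
          have := T.mul_mem ht (ih.2 t ht).2
          rwa [mul_inv_cancel_left] at this
        have := mul_mem (ih.2 t ht) (hT1 _ hu)
        rw [pow_succ', apl_mul _ _ htW]
        rwa [mul_assoc, mul_inv_cancel_left] at this
  obtain ⟨n, rfl⟩ := mem_powers_iff_mem_zpowers.2 hβ'z
  exact ⟨apl (β ^ n), (iso_apl hWS hβ').1, hβ'x, fun t ht =>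
    eq_of_fixed_quot (h.pS.to_le hWS) hβ'co (Subgroup.mem_sup_right ht)
      ((hpow n).1 _ ((hpow n).2 t ht))⟩

/-- An automorphism of order prime to `p` extending to fix `A` and to fix `B` fixes its part in the
join of the strongly closed subgroups `A` and `B`. -/
theorem fix_of_both [Fact p.Prime] [Finite S] (hS : IsPGroup p S) {R : Subgroup Ω} {γ : MulAut R}
    (hco : (orderOf γ).Coprime p) {kA kB : Ω → Ω} (hA : Mor F (R ⊔ A) kA)
    (hAx : ∀ x ∈ R, kA x = apl γ x) (hAf : ∀ a ∈ A, kA a = a) (hB : Mor F (R ⊔ B) kB)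
    (hBx : ∀ x ∈ R, kB x = apl γ x) (hBf : ∀ b ∈ B, kB b = b) (hBc : F.StronglyClosed B)
    {a b : Ω} (ha : a ∈ A) (hb : b ∈ B) (hx : a * b ∈ R) : apl γ (a * b) = a * b := by
  have hbA : b ∈ R ⊔ A := by
    rw [show b = a⁻¹ * (a * b) by group]
    exact mul_mem (Subgroup.mem_sup_right (A.inv_mem ha)) (Subgroup.mem_sup_left hx)
  have haB : a ∈ R ⊔ B := by
    rw [show a = a * b * b⁻¹ by group]
    exact mul_mem (Subgroup.mem_sup_left hx) (Subgroup.mem_sup_right (B.inv_mem hb))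
  have hbB : b ∈ R ⊔ B := Subgroup.mem_sup_right hb
  obtain ⟨δ, hδ⟩ : ∃ δ, δ = a⁻¹ * kB a := ⟨_, rfl⟩
  have h1 : apl γ (a * b) = kB a * b := by
    rw [← hBx _ hx, hB.map_mul haB hbB, hBf b hb]
  have h2 : apl γ (a * b) = a * kA b := by
    rw [← hAx _ hx, hA.map_mul (Subgroup.mem_sup_right ha) hbA, hAf a ha]
  have hδB : δ ∈ B := by
    have e : kB a = a * kA b * b⁻¹ := by rw [← h2, h1]; group
    rw [hδ, e, show a⁻¹ * (a * kA b * b⁻¹) = kA b * b⁻¹ by group]
    exact B.mul_mem (StronglyClosed.mor_mem hBc hA hbA hb) (B.inv_mem hb)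
  have hkBa : kB a = a * δ := by rw [hδ, mul_inv_cancel_left]
  have hstep : ∀ m : ℕ, apl (γ ^ m) (a * b) = a * δ ^ m * b := by
    intro m
    induction m with
    | zero => rw [pow_zero, pow_zero, mul_one, apl_one hx]
    | succ m ih =>
      have hm : a * δ ^ m * b ∈ R := ih ▸ apl_mem _ hx
      rw [pow_succ' γ, apl_mul _ _ hx, ih, ← hBx _ hm]
      have hd : δ ^ m ∈ R ⊔ B := Subgroup.mem_sup_right (B.pow_mem hδB m)
      rw [hB.map_mul (mul_mem haB hd) hbB, hB.map_mul haB hd, hBf b hb,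
        hBf _ (B.pow_mem hδB m), hkBa, mul_assoc a δ, ← pow_succ']
  have hfin := hstep (orderOf γ)
  rw [pow_orderOf_eq_one, apl_one hx] at hfin
  have hd1 : δ ^ orderOf γ = 1 := by
    have h3 := mul_right_cancel hfin
    exact (left_eq_mul.1 h3)
  obtain ⟨i, hi⟩ := hS ⟨δ, hBc.1 hδB⟩
  have hd2 : δ ^ p ^ i = 1 := congrArg Subtype.val hi
  have : δ = 1 := by
    have h3 : orderOf δ ∣ Nat.gcd (orderOf γ) (p ^ i) :=
      Nat.dvd_gcd (orderOf_dvd_of_pow_eq_one hd1) (orderOf_dvd_of_pow_eq_one hd2)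
    rw [Nat.Coprime.gcd_eq_one (hco.pow_right i), Nat.dvd_one, orderOf_eq_one_iff] at h3
    exact h3
  rw [h1, hkBa, this, mul_one]

/-- A component outside a normal subsystem over `B`. -/
theorem component_fix [Fact p.Prime] [Finite S] (hS : IsPGroup p S) (hF : F.IsSaturated p)
    (hA : F.IsNormal A) {W : FusionSystem B} (hW : W.IsNormalIn F p) {C : FusionSystem U}
    (hC : C.IsComponentIn F p) (hU : ¬ U ≤ B) :
    ∃ (hZ : A ⊔ B ≤ S) (V : Subgroup Ω) (Dv : FusionSystem V), Dv.IsNormalIn F p ∧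
      V ≤ centralizerIn S (A ⊔ B) ∧ F.StronglyClosed (A ⊔ B) ∧
      C.IsComponentIn Dv p ∧ Dv.IsSubsystemOf (centralizerSys F hZ) := by
  have hBc := hW.1.2.2.2.1
  have hAc := stronglyClosed_of_isNormal hA
  have hUcE : U ≤ cE W F p hBc.1 := (le_or_le_cE hC.1 hS hC.2 B W hW).resolve_left hU
  obtain ⟨D₁, hD₁, hD₁c⟩ := exists_centralizer_subsystem hS hF hW hBc
  have hD₂ := centSys_normal hS hF hA
  have hUA : U ≤ centralizerIn S A :=
    (isSubsystemOf_iff_mor.1 (component_le_centSys hS hF hA hC) U id (mor_id le_rfl)).le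
  obtain ⟨V, hV⟩ : ∃ V, V = cE W F p hBc.1 ⊓ centralizerIn S A := ⟨_, rfl⟩
  have hM : AM.Pair p F V D₁ (centralizerSys F hA.1) :=
    ⟨hS, hF, hV ▸ scInter hD₁.1.2.2.2.1 hD₂.1.2.2.2.1, hD₁.1, hD₂.1, hV ▸ inf_le_left,
      hV ▸ inf_le_right, hV ▸ le_rfl⟩
  have hn := hM.meet_normal
  have hVS : V ≤ S := hn.1.2.2.2.1.1
  haveI := finite_of_le hVS
  have hVp := hS.to_le hVS
  have hUV : U ≤ V := hV ▸ le_inf hUcE hUA
  have hZS : A ⊔ B ≤ S := sup_le hA.1 hBc.1
  have hsub₁ : ∀ {P f}, Mor hM.meetSys P f → Mor D₁ P f :=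
    fun h => mor_of_invariant hM.meet_normal₁.1.2.2 h
  have hsub₂ : ∀ {P f}, Mor hM.meetSys P f → Mor (centralizerSys F hA.1) P f :=
    fun h => mor_of_invariant hM.meet_normal₂.1.2.2 h
  have hVc : V ≤ centralizerIn S (A ⊔ B) := fun v hv => by
    rw [hV] at hv
    refine ⟨hv.2.1, Subgroup.le_centralizer_iff.1 (sup_le (fun a ha => ?_) fun b hb => ?_)
      (Subgroup.mem_zpowers v)⟩
    · exact Subgroup.mem_centralizer_iff.2 fun w hw => by
        obtain ⟨j, rfl⟩ := hw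
        exact (((show Commute a v from Subgroup.mem_centralizer_iff.1 hv.2.2 a ha).zpow_right j).eq).symm
    · exact Subgroup.mem_centralizer_iff.2 fun w hw => by
        obtain ⟨j, rfl⟩ := hw
        exact (((show Commute b v from
          Subgroup.mem_centralizer_iff.1 (cE_le _ hv.1).2 b hb).zpow_right j).eq).symm
  have hZc : F.StronglyClosed (A ⊔ B) := by
    refine stronglyClosed_iff.2 ⟨hZS, fun P f hP hf x hx => ?_⟩
    obtain ⟨g, hg, hgf, hgA⟩ := (isNormal_iff.1 hA).2 P f hf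
    have hBA : A ≤ Subgroup.normalizer (B : Set Ω) := fun a ha =>
      StronglyClosed.le_normalizer hBc (hA.1 ha)
    have hxZ : x ∈ (A : Set Ω) * (B : Set Ω) := by
      rw [← Subgroup.coe_mul_of_left_le_normalizer_right A B hBA]
      exact hP hx
    obtain ⟨a, ha, b, hb, rfl⟩ := hxZ
    have hbP : b ∈ P ⊔ A := by
      rw [show b = a⁻¹ * (a * b) by group]
      exact mul_mem (Subgroup.mem_sup_right (A.inv_mem ha)) (Subgroup.mem_sup_left hx)
    rw [← hgf _ hx, hg.map_mul (Subgroup.mem_sup_right ha) hbP]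
    exact mul_mem (Subgroup.mem_sup_left ((hgA _).2 ⟨a, ha, rfl⟩))
      (Subgroup.mem_sup_right (StronglyClosed.mor_mem hBc hg hbP hb))
  have hfix : ∀ P f, Mor hM.meetSys P f → ∀ x ∈ P, x ∈ A ⊔ B → f x = x := by
    let M : Subgroup Ω → (Ω → Ω) → Prop := fun P f =>
      Mor hM.meetSys P f ∧ ∀ x ∈ P, x ∈ A ⊔ B → f x = x
    have hc : ∀ {P : Subgroup Ω} {s : Ω}, P ≤ V → s ∈ V → ∀ x ∈ P, x ∈ A ⊔ B → s * x * s⁻¹ = x :=
      fun {P s} _ hs x _ hx => by
        rw [← Subgroup.mem_centralizer_iff.1 (hVc hs).2 x hx, mul_inv_cancel_right]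
    have hMr : SubRel hM.meetSys V M :=
      { congr := fun h he => ⟨h.1.congr he, fun x hx hxZ => by rw [he x hx]; exact h.2 x hx hxZ⟩
        le := fun h => ⟨h.1.le, fun _ hx => h.1.mem_S hx⟩
        conj := fun hP hs => ⟨mor_conj hP hs, mor_conj hP hs, hc hP hs⟩
        comp := fun {P Q f g} hf h hg h' hfQ => ⟨hf.comp hg hfQ, fun x hx hxZ => by
          show g (f x) = x
          have h1 : f x = x := h.2 x hx hxZ
          rw [h1]
          exact h'.2 x (h1 ▸ hfQ x hx) hxZ⟩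
        inv := fun {P Q f g} hf h hg hgf => ⟨hg.1, fun y hy hyZ => by
          obtain ⟨x, hx, rfl⟩ := hf.exists_eq hy
          have hxZ : x ∈ A ⊔ B := by
            have h1 := StronglyClosed.mor_mem hZc
              (isSubsystemOf_iff_mor.1 hn.1.2.2.1 _ _ hg.1) hy hyZ
            rwa [hgf x hx] at h1
          rw [hgf x hx, h.2 x hx hxZ]⟩ }
    intro P f hf
    refine (alperin_induction hVp hn.1.1 hMr (fun R hR α hα => ?_) P f hf).2
    have hRV : R ≤ V := hR.elim (fun e => e.le) fun e => e.1.1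
    have hRn : hM.meetSys.IsFullyNormalized R := by
      rcases hR with rfl | h
      · haveI := finite_of_le (normalizerIn_le R R)
        exact ⟨le_rfl, fun Q _ => Subgroup.card_le_of_le
          (le_inf (normalizerIn_le _ Q) ((normalizerIn_le _ Q).trans Subgroup.le_normalizer))⟩
      · exact h.2.1
    haveI := finite_of_le (hRV.trans hVS)
    suffices h : hM.meetSys.autGroup R ≤ (subSys hMr).autGroup R from
      ((mor_subSys hMr).1 (iso_apl hRV (h hα)).1).2
    rw [autGroup_eq_residual_sup hVp hn.1.1 hRn]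
    refine sup_le ?_ (autInducedBy_le_autGroup hRV)
    rw [pResidual, MonoidHom.map_closure, Subgroup.closure_le]
    rintro _ ⟨b, hb, rfl⟩
    rw [Set.mem_setOf_eq, ← Subgroup.orderOf_coe] at hb
    have hbi := iso_apl hRV b.2
    refine (mem_autGroup_iff hRV).2 ⟨(mor_subSys hMr).2 ⟨hbi.1, hbi.1, fun x hx hxZ => ?_⟩, hbi.2⟩
    obtain ⟨φ, hφ, hφx⟩ := hsub₁ hbi.1
    obtain ⟨-, -, -, kB, hkB, hkBx, hkBf⟩ := mem_centralizerHom_iff.1 (hD₁c R hφ)
    obtain ⟨-, -, -, kA, hkA, hkAx, hkAf⟩ :=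
      (mor_centralizerSystem (isCentralizerSystem_centralizerSys hA.1)).1 (hsub₂ hbi.1)
    have hBA : A ≤ Subgroup.normalizer (B : Set Ω) := fun a ha =>
      StronglyClosed.le_normalizer hBc (hA.1 ha)
    have hxZ' : x ∈ (A : Set Ω) * (B : Set Ω) := by
      rw [← Subgroup.coe_mul_of_left_le_normalizer_right A B hBA]
      exact hxZ
    obtain ⟨a, ha, c, hc', rfl⟩ := hxZ'
    exact fix_of_both hS hb hkA hkAx hkAf hkB
      (fun y hy => by rw [hkBx y hy, extendFn_apply φ hy]; exact hφx ⟨y, hy⟩) hkBf hBc ha hc' hx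
  have hSep : Sep p F hM.meetSys (A ⊔ B) := ⟨hS, hn, hZc, hfix⟩
  refine ⟨hZS, V, hM.meetSys, hn, hVc, hZc, component_of_le hC.1 hS hC.2 V _ hn hUV, ?_⟩
  haveI := finite_of_le (centralizerIn_le S (A ⊔ B))
  refine ProdS.sub_of_mor (ProdS.mor_of_generators hVp hn.1.1 hVc fun R hR _ α hα hco => ?_)
  obtain ⟨k, hk, hkx, hkf⟩ := coprime_fix hSep (iso_apl hR hα).1 hco
  have hRC : R ≤ centralizerIn S (A ⊔ B) := hR.trans hVc
  refine (mem_autGroup_iff hRC).2 ⟨(mor_centralizerSystem (isCentralizerSystem_centralizerSys hZS)).2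
    ⟨(hk.mono le_sup_left).congr fun x hx => (hkx x hx).symm, hRC, fun x hx => hRC (apl_mem α hx),
      k, hk, hkx, hkf⟩, ?_⟩
  exact (iso_apl hR hα).2

/-- The component is one of the normalizer system of the strongly closed subgroup. -/
theorem component_normalizer [Fact p.Prime] [Finite S] (hS : IsPGroup p S) (hF : F.IsSaturated p)
    (hZ : Z ≤ S) (hZc : F.StronglyClosed Z) (hn : D.IsNormalIn F p)
    (hVZ : V ≤ centralizerIn S Z) (hsub : D.IsSubsystemOf (centralizerSys F hZ))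
    {C : FusionSystem U} (hC : C.IsComponentIn D p) :
    C.IsComponentIn (normalizerSys F hZ) p := by
  have hNZ : normalizerIn S Z = S :=
    le_antisymm inf_le_left fun s hs => ⟨hs, StronglyClosed.le_normalizer hZc hs⟩
  have hK := isNormalizerSystem_normalizerSys (F := F) hZ
  have hsat := normalizerSystem_saturated hS hF
    (fullyNormalized_of_stronglyClosed hZc) hK
  have hDF := isSubsystemOf_iff_mor.1 hn.1.2.2.1
  have hDK : D.IsSubsystemOf (normalizerSys F hZ) := isSubsystemOf_iff_mor.2 fun P f hf => by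
    obtain ⟨h, hP, hPf, k, hk, hkf, hkZ⟩ :=
      (mor_centralizerSystem (isCentralizerSystem_centralizerSys hZ)).1
        (isSubsystemOf_iff_mor.1 hsub P f hf)
    exact (mor_normalizerSystem hK).2 ⟨h, fun x hx => hNZ.ge (hP hx).1,
      fun x hx => hNZ.ge (hPf x hx).1, k, hk, hkf,
      fun y => ⟨fun hy => ⟨y, hy, hkZ y hy⟩, fun ⟨x, hx, e⟩ => e ▸ (hkZ x hx).symm ▸ hx⟩⟩
  have hKF : (normalizerSys F hZ).IsSubsystemOf F :=
    isSubsystemOf_iff_mor.2 fun P f hf => ((mor_normalizerSystem hK).1 hf).1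
  refine ⟨.step hC.1 ⟨⟨hn.1.1, hsat, AutT.invariant_of_le hS hn.1.2.2 hsat hKF hDK⟩,
    fun α hα => ?_⟩, hC.2⟩
  obtain ⟨β, hβ, hβα, hβc⟩ := hn.2 α hα
  have hVS : V ≤ S := hn.1.2.2.2.1.1
  have hW : V ⊔ centralizerIn (normalizerIn S Z) V = V ⊔ centralizerIn S V := by rw [hNZ]
  have hWS : V ⊔ centralizerIn S V ≤ S := sup_le hVS (centralizerIn_le S V)
  have hZW : Z ≤ V ⊔ centralizerIn S V := fun z hz => Subgroup.mem_sup_right ⟨hZ hz,
    Subgroup.mem_centralizer_iff.2 fun v hv =>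
      (Subgroup.mem_centralizer_iff.1 (hVZ hv).2 z hz).symm⟩
  have hm := (iso_apl hWS hβ).1
  have hi : Iso (normalizerSys F hZ) (V ⊔ centralizerIn S V) (V ⊔ centralizerIn S V) (apl β) :=
    ⟨(mor_normalizerSystem hK).2 ⟨hm, fun x hx => hNZ.ge (hWS hx), fun x hx => hNZ.ge (hm.mem_S hx),
      apl β, hm.mono (sup_le le_rfl hZW), fun _ _ => rfl,
      (StronglyClosed.iso_self hZc hm hZW).2⟩, (iso_apl hWS hβ).2⟩
  obtain ⟨g, hg⟩ : ∃ g, g = apl β := ⟨_, rfl⟩
  rw [← hg, ← hW] at hi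
  obtain ⟨β', hβ', hβ'x⟩ := hi.exists_mem_autGroup
  rw [hg] at hβ'x
  refine ⟨β', hβ', fun x => ?_, fun c hc => ?_⟩
  · exact (apl_apply β' (Subgroup.mem_sup_left x.2)).symm.trans
      ((hβ'x _ (Subgroup.mem_sup_left x.2)).trans
        ((apl_apply β (Subgroup.mem_sup_left x.2)).trans (hβα x)))
  · have hcW : (c : Ω) ∈ V ⊔ centralizerIn S V := hW ▸ c.2
    rw [← apl_apply β' c.2, hβ'x _ c.2, apl_apply β hcW]
    refine hβc ⟨c, hcW⟩ ?_
    exact ⟨hWS hcW, hc.2⟩

end Cfsg.Agent.FusSys.EBal
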