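import Cfsg.Agent.FusSys.NormalSub
import Cfsg.Agent.Fusion.Residual

/-!
A Frattini decomposition along a normal subgroup.
-/

set_option autoImplicit false
set_option linter.unusedSectionVars false

namespace Cfsg.Agent.FusSys.EBal

open Cfsg Cfsg.Agent.FusSys

/-- Every element is one normalizing the Sylow part of a normal subgroup times one generated by
elements of order prime to `p` in it. -/
theorem exists_split {G : Type*} [Group G] [Finite G] {p : ℕ} [Fact p.Prime] (U : Sylow p G)
    (A : Subgroup G) [hA : A.Normal] (a : G) :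
    ∃ n ∈ Subgroup.normalizer (((U : Subgroup G) ⊓ A : Subgroup G) : Set G),
      ∃ k ∈ Subgroup.closure {x : G | x ∈ A ∧ (orderOf x).Coprime p}, n * k = a := by
  obtain ⟨K, hKd⟩ : ∃ K, K = Subgroup.closure {x : G | x ∈ A ∧ (orderOf x).Coprime p} := ⟨_, rfl⟩
  rw [← hKd]
  haveI hK : K.Normal := by
    refine ⟨fun x hx g => ?_⟩
    rw [hKd] at hx ⊢
    induction hx using Subgroup.closure_induction with
    | mem y hy =>
      refine Subgroup.subset_closure ⟨hA.conj_mem y hy.1 g, ?_⟩
      rw [show g * y * g⁻¹ = MulAut.conj g y from rfl, MulEquiv.orderOf_eq]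
      exact hy.2
    | one =>
      rw [mul_one, mul_inv_cancel]
      exact one_mem _
    | mul y z _ _ hy hz =>
      have h := mul_mem hy hz
      rwa [show g * y * g⁻¹ * (g * z * g⁻¹) = g * (y * z) * g⁻¹ by group] at h
    | inv y _ hy =>
      have h := inv_mem hy
      rwa [show (g * y * g⁻¹)⁻¹ = g * y⁻¹ * g⁻¹ by group] at h
  obtain ⟨V, hV⟩ := (sylIn_iff (U.2.to_le inf_le_left) inf_le_right).1 (sylow_inter_normal U A)
  have hfr := Sylow.normalizer_sup_eq_top V
  rw [hV, Subgroup.subgroupOf_map_subtype,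
    inf_eq_left.2 (inf_le_right : (U : Subgroup G) ⊓ A ≤ A)] at hfr
  obtain ⟨M, hM⟩ : ∃ M, M = Subgroup.normalizer (((U : Subgroup G) ⊓ A : Subgroup G) : Set G) :=
    ⟨_, rfl⟩
  rw [← hM] at hfr ⊢
  have hAle : A ≤ M ⊔ K := by
    have h1 : (⊤ : Subgroup A) ≤ (M ⊔ K).subgroupOf A := by
      rw [← Cfsg.Agent.Fusion.sylow_sup_pResidual V, hV]
      refine sup_le (fun x hx => Subgroup.mem_sup_left (hM ▸ Subgroup.le_normalizer hx))
        ((Subgroup.closure_le _).2 fun x hx => Subgroup.mem_sup_right (hKd ▸ ?_))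
      refine Subgroup.subset_closure ⟨x.2, ?_⟩
      show (orderOf (x : G)).Coprime p
      rw [Subgroup.orderOf_coe]
      exact hx
    exact fun x hx => h1 (Subgroup.mem_top (⟨x, hx⟩ : A))
  have h2 : a ∈ M ⊔ K := (hfr ▸ sup_le le_sup_left hAle : (⊤ : Subgroup G) ≤ M ⊔ K) (Subgroup.mem_top a)
  rw [Subgroup.mem_sup_of_normal_right] at h2
  exact h2

end Cfsg.Agent.FusSys.EBal
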