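import Cfsg.Agent.FusSys.EBal.Push
import Cfsg.Agent.FusSys.EBal.Split
import Cfsg.Agent.FusSys.ProdS.Uniq

/-!
Every map of `F` is a map of the product system after a map defined on the part in `T` as well, so
`F` carries the automorphisms of order prime to `p` of the product system to such automorphisms.
-/

set_option autoImplicit false
set_option linter.unusedSectionVars false
set_option linter.style.haveILetI false
set_option linter.unusedVariables false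

namespace Cfsg.Agent.FusSys.ProdS

open Cfsg Cfsg.FusionSystem Cfsg.Agent.FusSys
open scoped Pointwise

universe u

variable {Ω : Type u} [Group Ω] {S T : Subgroup Ω} {F : FusionSystem S} {E : FusionSystem T}
variable {P Q R A B : Subgroup Ω} {f g : Ω → Ω} {p : ℕ}

/-- A map of the product system after a map defined on the part in `T` as well. -/
def Gf (p : ℕ) (F : FusionSystem S) (E : FusionSystem T) (P : Subgroup Ω) (f : Ω → Ω) : Prop :=
  Mor F P f ∧ ∀ A, A ≤ P → ∃ β, Mor F (A ⊔ T) β ∧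
    ∀ B, Iso F A B β → ∃ d, Mor (prodSys p F E) B d ∧ ∀ x ∈ A, d (β x) = f x

namespace Hyp

variable (hyp : Hyp p F E) [Fact p.Prime] [Finite S]
include hyp

theorem subRel_gf : SubRel F S (Gf p F E) where
  congr h he := ⟨h.1.congr he, fun A hA => by
    obtain ⟨β, hβ, h1⟩ := h.2 A hA
    refine ⟨β, hβ, fun B hB => ?_⟩
    obtain ⟨d, hd, hdx⟩ := h1 B hB
    exact ⟨d, hd, fun x hx => (hdx x hx).trans (he x (hA hx)).symm⟩⟩
  le h := ⟨h.1.le, fun x hx => h.1.mem_S hx⟩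
  conj {P s} hP hs := ⟨mor_conj hP hs, mor_conj hP hs, fun A hA =>
    ⟨_, hyp.conjMor (hA.trans hP) hs, fun B hB => ⟨id, mor_id hB.right_le, fun x hx => rfl⟩⟩⟩
  comp {P Q f g} hf hMf hg hMg hfQ := ⟨hf.comp hg hfQ, fun A hA => by
    obtain ⟨β₁, hβ₁, h1⟩ := hMf.2 A hA
    obtain ⟨B₁, hB₁⟩ := (hβ₁.mono le_sup_left).exists_iso
    obtain ⟨d₁, hd₁, hd₁x⟩ := h1 B₁ hB₁
    obtain ⟨C, hC⟩ := (hf.mono hA).exists_iso
    have hCQ : C ≤ Q := fun y hy => by
      obtain ⟨x, hx, rfl⟩ := hC.exists_eq hy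
      exact hfQ x (hA hx)
    obtain ⟨β₂, hβ₂, h2⟩ := hMg.2 C hCQ
    obtain ⟨B₂, hB₂⟩ := (hβ₂.mono le_sup_left).exists_iso
    obtain ⟨d₂, hd₂, hd₂x⟩ := h2 B₂ hB₂
    obtain ⟨s, hs⟩ := hyp.push_all hd₁ B₁ le_rfl
    have hd₁C : ∀ y ∈ B₁, d₁ y ∈ C := fun y hy => by
      obtain ⟨x, hx, rfl⟩ := hB₁.exists_eq hy
      rw [hd₁x x hx]
      exact hC.mem hx
    have hc := hyp.conjMor hB₁.right_le hs.1
    have hcm : ∀ y ∈ B₁ ⊔ T, s * y * s⁻¹ ∈ C ⊔ T := fun y hy => hc.mem_of_sup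
      (fun a ha => hyp.push_mem' hs hd₁C ha)
      (fun a ha => Subgroup.mem_sup_right (hyp.conj_T_mem hs.1 ha)) hy
    have hβ' := hc.comp hβ₂ hcm
    obtain ⟨B₁', hB₁'⟩ := (hβ'.mono le_sup_left).exists_iso
    obtain ⟨k, hk, hkx⟩ := hs.2.2.2 _ B₁' hβ' hB₁'
    have hβ₁m : ∀ y ∈ A ⊔ T, β₁ y ∈ B₁ ⊔ T := fun y hy => hβ₁.mem_of_sup
      (fun a ha => Subgroup.mem_sup_left (hB₁.mem ha))
      (fun a ha => Subgroup.mem_sup_right
        (StronglyClosed.mor_mem hyp.sc hβ₁ (Subgroup.mem_sup_right ha) ha)) hy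
    refine ⟨_, hβ₁.comp hβ' hβ₁m, fun B hB => ?_⟩
    obtain rfl : B₁' = B := (hB₁.comp hB₁').eq_image hB
    have e : ∀ y ∈ B₁, k (β₂ (s * y * s⁻¹)) = β₂ (d₁ y) := fun y hy => by
      refine (hkx y hy).trans ?_
      show β₂ (s * (s⁻¹ * d₁ y * s) * s⁻¹) = _
      congr 1
      group
    refine ⟨d₂ ∘ k, hk.comp hd₂ fun z hz => ?_, fun x hx => ?_⟩
    · obtain ⟨y, hy, rfl⟩ := hB₁'.exists_eq hz
      show k (β₂ (s * y * s⁻¹)) ∈ B₂
      rw [e y hy]
      exact hB₂.mem (hd₁C y hy)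
    · show d₂ (k (β₂ (s * β₁ x * s⁻¹))) = g (f x)
      rw [e _ (hB₁.mem hx), hd₁x x hx, hd₂x _ (hC.mem hx)]⟩
  inv {P Q f g} hf hMf hg hgf := ⟨hg.1, fun A hA => by
    obtain ⟨A₀, hA₀⟩ := (hg.1.mono hA).exists_iso
    have hA₀P : A₀ ≤ P := fun x hx => by
      obtain ⟨y, hy, rfl⟩ := hA₀.exists_eq hx
      exact hg.mem (hA hy)
    have hfg : ∀ y ∈ A, f (g y) = y := fun y hy => by
      obtain ⟨x, hx, rfl⟩ := hf.exists_eq (hA hy)
      rw [hgf x hx]
    obtain ⟨β₁, hβ₁, h1⟩ := hMf.2 A₀ hA₀P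
    obtain ⟨B₁, hB₁⟩ := (hβ₁.mono le_sup_left).exists_iso
    obtain ⟨d₁, hd₁, hd₁x⟩ := h1 B₁ hB₁
    have hd₁i : Iso (prodSys p F E) B₁ A d₁ := by
      refine ⟨hd₁, fun y => ⟨fun hy => ⟨_, hB₁.mem (hA₀.mem hy), ?_⟩, ?_⟩⟩
      · rw [hd₁x _ (hA₀.mem hy), hfg y hy]
      · rintro ⟨z, hz, rfl⟩
        obtain ⟨x, hx, rfl⟩ := hB₁.exists_eq hz
        obtain ⟨y, hy, rfl⟩ := hA₀.exists_eq hx
        rwa [hd₁x _ hx, hfg y hy]
    obtain ⟨d₁', hd₁', hd₁'d, -⟩ := hd₁i.symm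
    obtain ⟨s, hs⟩ := hyp.push_all hd₁'.1 A le_rfl
    obtain ⟨W, hW⟩ := hβ₁.exists_iso
    obtain ⟨γ, hγ, hγβ, -⟩ := hW.symm
    have hle : B₁ ⊔ T ≤ W := sup_le
      (fun y hy => by
        obtain ⟨x, hx, rfl⟩ := hB₁.exists_eq hy
        exact hW.mem (Subgroup.mem_sup_left hx))
      (fun y hy => by
        obtain ⟨x, hx, rfl⟩ := ((StronglyClosed.iso_self hyp.sc hβ₁ le_sup_right).2 y).1 hy
        exact hW.mem (Subgroup.mem_sup_right hx))
    have hc := hyp.conjMor hd₁i.right_le hs.1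
    have hcm : ∀ y ∈ A ⊔ T, s * y * s⁻¹ ∈ B₁ ⊔ T := fun y hy => hc.mem_of_sup
      (fun a ha => hyp.push_mem' hs (fun x hx => hd₁'.mem hx) ha)
      (fun a ha => Subgroup.mem_sup_right (hyp.conj_T_mem hs.1 ha)) hy
    have hβ := hc.comp (hγ.1.mono hle) hcm
    refine ⟨_, hβ, fun B hB => ?_⟩
    obtain ⟨k, hk, hkx⟩ := hs.2.2.2 _ B hβ hB
    refine ⟨k, hk, fun y hy => (hkx y hy).trans ?_⟩
    show γ (s * (s⁻¹ * d₁' y * s) * s⁻¹) = g y
    rw [show s * (s⁻¹ * d₁' y * s) * s⁻¹ = d₁' y by group]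
    have h3 : d₁' y = β₁ (g y) := by
      have h4 := hd₁'d _ (hB₁.mem (hA₀.mem hy))
      rwa [hd₁x _ (hA₀.mem hy), hfg y hy] at h4
    rw [h3, hγβ _ (Subgroup.mem_sup_left (hA₀.mem hy))]⟩

theorem gf_of_prod {α : MulAut R} (hR : TCP S E R) (hα : α ∈ A0 p F E R) :
    Gf p F E R (apl α) := by
  refine ⟨(iso_apl hR.1 (A0_le hα)).1, fun A hA =>
    ⟨id, mor_id (sup_le (hA.trans hR.1) hyp.T_le), fun B hB => ?_⟩⟩
  obtain rfl : A = B := (iso_id (F := F) (hA.trans hR.1)).eq_image hB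
  exact ⟨_, (mor_gen hR hα).mono hA, fun x hx => rfl⟩

/-- Every map of `F` decomposes. -/
theorem gf_all (hf : Mor F P f) : Gf p F E P f := by
  haveI := hyp.finite_T
  have hG := hyp.subRel_gf
  refine ((mor_subSys hG).1 (le_iff_mor.1 (le_of_aut_le' hyp.pS hyp.sat fun R hR hbig => ?_) P f hf)).2
  intro α hα
  have hRS : R ≤ S := hR.elim (fun e => e.le) fun e => e.1.1
  haveI := finite_of_le hRS
  haveI : Finite (MulAut R) := Finite.of_injective _ MulEquiv.toEquiv_injective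
  by_cases hTR : T ≤ R
  · refine (mem_autGroup_iff hRS).2 ⟨(mor_subSys hG).2 ⟨(iso_apl hRS hα).1, (iso_apl hRS hα).1,
      fun A hA => ⟨apl α, (iso_apl hRS hα).1.mono (sup_le hA hTR), fun B hB => ?_⟩⟩,
      (iso_apl hRS hα).2⟩
    exact ⟨id, mor_id hB.right_le, fun x hx => rfl⟩
  have hess : F.IsEssential p R := hR.resolve_left fun e => hTR (e ▸ hyp.T_le)
  have hTCP := tcp_of_radical hyp hess.1 (essential_radical hyp.pS hyp.sat hess)
  obtain ⟨-, U, hU⟩ := fullyAutomized_of_fullyNormalized hyp.pS hyp.sat hess.2.1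
  let K : Subgroup (F.autGroup R) :=
    { carrier := {a | KAut E R (a : MulAut R)}
      one_mem' := hyp.kaut_one hRS
      mul_mem' := fun ha hb => hyp.kaut_mul ha hb
      inv_mem' := fun ha => hyp.kaut_inv hRS ha }
  haveI hK : K.Normal := ⟨fun a ha b => by
    have h1 := hyp.kaut_transport (iso_apl hRS b.2) a.2 ha
    rw [AM.conjAut_apl_iso hRS b.2] at h1
    exact h1⟩
  obtain ⟨n, hn, k, hk, hnk⟩ := EBal.exists_split U K (⟨α, hα⟩ : F.autGroup R)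
  have hkG : (k : MulAut R) ∈ (subSys hG).autGroup R := by
    clear hnk
    induction hk using Subgroup.closure_induction with
    | mem a ha =>
      have h0 := hyp.mem_A0 a.2 (by rw [Subgroup.orderOf_coe]; exact ha.2) ha.1
      exact (mem_autGroup_iff hRS).2
        ⟨(mor_subSys hG).2 ⟨(iso_apl hRS a.2).1, hyp.gf_of_prod hTCP h0⟩, (iso_apl hRS a.2).2⟩
    | one => exact one_mem _
    | mul a b _ _ ha hb => exact mul_mem ha hb
    | inv a _ ha => exact Subgroup.inv_mem _ ha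
  have hnG : (n : MulAut R) ∈ (subSys hG).autGroup R := by
    have hni := iso_apl (F := F) hRS n.2
    obtain ⟨g, hg, hgn⟩ :=
      (isReceptive_iff.1 (receptive_of_fullyNormalized hyp.pS hyp.sat hess.2.1)).2 R _ hni
    have hlt : R < R ⊔ T := lt_of_le_of_ne le_sup_left fun e => hTR (le_sup_right.trans e.ge)
    obtain ⟨z, hz, hzR⟩ := SetLike.exists_of_lt
      (lt_inf_normalizer hyp.pS (sup_le hRS hyp.T_le) hlt)
    obtain ⟨hzW, hzn⟩ := hz
    have hRT : R ≤ Subgroup.normalizer (T : Set Ω) := fun x hx => hyp.S_norm (hRS hx)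
    have hzW' : z ∈ (R : Set Ω) * (T : Set Ω) := by
      rw [← Subgroup.coe_mul_of_left_le_normalizer_right R T hRT]
      exact hzW
    obtain ⟨r, hr, t, ht, rfl⟩ := hzW'
    have htn : t ∈ Subgroup.normalizer (R : Set Ω) := by
      have h1 := mul_mem (inv_mem (Subgroup.le_normalizer hr)) hzn
      rwa [inv_mul_cancel_left] at h1
    have htR : t ∉ R := fun h => hzR (R.mul_mem hr h)
    obtain ⟨c, hc, hcx⟩ := exists_mem_autInducedBy (K := S) (P := R) (hyp.T_le ht) htn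
    have hcF : c ∈ F.autGroup R := autInducedBy_le_autGroup hRS hc
    have hcK : (⟨c, hcF⟩ : F.autGroup R) ∈ K := by
      refine ⟨fun x hx => ?_, (mor_conj inf_le_right ht).congr fun x hx => hcx x hx.1⟩
      rw [hcx x hx, show x⁻¹ * (t * x * t⁻¹) = x⁻¹ * t * x⁻¹⁻¹ * t⁻¹ by group]
      exact T.mul_mem (hyp.conj_T_mem (S.inv_mem (hRS hx)) ht) (T.inv_mem ht)
    have hcU : (⟨c, hcF⟩ : F.autGroup R) ∈ (U : Subgroup (F.autGroup R)) ⊓ K :=
      ⟨hU.ge (Subgroup.mem_subgroupOf.2 hc), hcK⟩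
    have h2 := Subgroup.mem_subgroupOf.1 (hU.le ((Subgroup.mem_normalizer_iff.1 hn _).1 hcU).1)
    obtain ⟨h, hh, -, hhx⟩ := mem_autInducedBy_iff.1 h2
    have htN : t ∈ nPhi S R (apl (n : MulAut R)) := mem_nPhi.2 ⟨hyp.T_le ht, htn, h, hh, fun x hx => by
      rw [← hhx _ (apl_mem _ hx)]
      show _ = apl ((n : MulAut R) * c * (n : MulAut R)⁻¹) _
      rw [apl_mul _ _ (apl_mem _ hx), apl_inv_apl _ hx, apl_mul _ _ hx, hcx x hx]⟩
    have hRN : R < nPhi S R (apl (n : MulAut R)) :=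
      lt_of_le_of_ne hni.1.le_nPhi fun e => htR (e.ge htN)
    have hgG := hbig _ g (card_lt_of_lt' hg.le hRN) hg
    exact (mem_autGroup_iff hRS).2 ⟨(hgG.mono hRN.le).congr fun x hx => (hgn x hx).symm, hni.2⟩
  have he : α = (n : MulAut R) * (k : MulAut R) := (congrArg Subtype.val hnk).symm
  rw [he]
  exact mul_mem hnG hkG

/-- `F` carries automorphisms of order prime to `p` of the product system to such automorphisms. -/
theorem conjAut_mem_prod (hi : Iso F P Q f) {α : MulAut P}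
    (hα : α ∈ (prodSys p F E).autGroup P) (hco : (orderOf α).Coprime p) :
    hi.conjAut α ∈ (prodSys p F E).autGroup Q := by
  obtain ⟨β, hβ, h⟩ := (hyp.gf_all hi.1).2 P le_rfl
  obtain ⟨B, hB⟩ := (hβ.mono le_sup_left).exists_iso
  obtain ⟨d, hd, hdx⟩ := h B hB
  have hdi : Iso (prodSys p F E) B Q d := by
    refine ⟨hd, fun y => ⟨fun hy => ?_, ?_⟩⟩
    · obtain ⟨x, hx, rfl⟩ := hi.exists_eq hy
      exact ⟨_, hB.mem hx, hdx x hx⟩
    · rintro ⟨z, hz, rfl⟩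
      obtain ⟨x, hx, rfl⟩ := hB.exists_eq hz
      rw [hdx x hx]
      exact hi.mem hx
  have h1 := hdi.conjAut_mem (hyp.conjAut_mem_prod_of_ext hβ hB hα hco)
  have e : hi.conjAut α = hdi.conjAut (hB.conjAut α) := apl_ext fun y hy => by
    obtain ⟨x, hx, rfl⟩ := hi.exists_eq hy
    rw [hi.conjAut_apl α hx, ← hdx x hx, hdi.conjAut_apl _ (hB.mem hx), hB.conjAut_apl α hx,
      hdx _ (apl_mem α hx)]
  rw [e]
  exact h1

/-- `F` carries conjugation by an element of `T` to an automorphism of the product system. -/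
theorem conj_T_mem_prod (hi : Iso F P Q f) {t : Ω} (ht : t ∈ T) {α : MulAut P}
    (hαx : ∀ x ∈ P, apl α x = t * x * t⁻¹) :
    hi.conjAut α ∈ (prodSys p F E).autGroup Q := by
  obtain ⟨β, hβ, h⟩ := (hyp.gf_all hi.1).2 P le_rfl
  obtain ⟨B, hB⟩ := (hβ.mono le_sup_left).exists_iso
  obtain ⟨d, hd, hdx⟩ := h B hB
  have htP : t ∈ P ⊔ T := Subgroup.mem_sup_right ht
  have hdi : Iso (prodSys p F E) B Q d := by
    refine ⟨hd, fun y => ⟨fun hy => ?_, ?_⟩⟩
    · obtain ⟨x, hx, rfl⟩ := hi.exists_eq hy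
      exact ⟨_, hB.mem hx, hdx x hx⟩
    · rintro ⟨z, hz, rfl⟩
      obtain ⟨x, hx, rfl⟩ := hB.exists_eq hz
      rw [hdx x hx]
      exact hi.mem hx
  have hαi : ∀ x ∈ P, t * x * t⁻¹ ∈ P := fun x hx => hαx x hx ▸ apl_mem α hx
  have hm : Mor (prodSys p F E) B (apl (hB.conjAut α)) :=
    (mor_conj hB.right_le (hβ.mem_S htP)).congr fun y hy => by
      obtain ⟨x, hx, rfl⟩ := hB.exists_eq hy
      rw [hB.conjAut_apl α hx, hαx x hx, hβ.map_conj htP (Subgroup.mem_sup_left hx)]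
  have h0 : hB.conjAut α ∈ (prodSys p F E).autGroup B :=
    Subgroup.subset_closure (hm.hom_eq fun x => (apl_coe _ x).symm)
  have h1 := hdi.conjAut_mem h0
  have e : hi.conjAut α = hdi.conjAut (hB.conjAut α) := apl_ext fun y hy => by
    obtain ⟨x, hx, rfl⟩ := hi.exists_eq hy
    rw [hi.conjAut_apl α hx, ← hdx x hx, hdi.conjAut_apl _ (hB.mem hx), hB.conjAut_apl α hx,
      hdx _ (apl_mem α hx)]
  rw [e]
  exact h1

end Hyp

end Cfsg.Agent.FusSys.ProdS
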