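import Cfsg.Agent.FusSys.Normal
import Cfsg.Agent.FusSys.Transport
import Cfsg.Agent.FusSys.Saturation

/-!
The transport of `N_{N_F(X)}(Z)` to `N_{N_F(Z')}(X')` along a map on `N_S(Z)`.
-/

set_option autoImplicit false
set_option linter.unusedSectionVars false
set_option linter.style.haveILetI false
set_option linter.unusedVariables false

namespace Cfsg.Agent.FusSys.EBal

open Cfsg Cfsg.FusionSystem Cfsg.Agent.FusSys

universe u

variable {Ω : Type u} [Group Ω] {S X Z P W W' : Subgroup Ω} {F : FusionSystem S} {f φ ψ : Ω → Ω}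

/-- Maps on subgroups of `W` extending to a map stabilizing `Z` and `X`. -/
def DN (F : FusionSystem S) (W X Z P : Subgroup Ω) (f : Ω → Ω) : Prop :=
  P ≤ W ∧ (∀ x ∈ P, f x ∈ W) ∧ ∃ g, Mor F (P ⊔ Z) g ∧ (∀ x ∈ P, g x = f x) ∧
    (∀ y, y ∈ Z ↔ ∃ x ∈ Z, g x = y) ∧ ∀ y, y ∈ X ↔ ∃ x ∈ X, g x = y

theorem mor_normalizer_inner {N : FusionSystem (normalizerIn S X)}
    (hN : F.IsNormalizerSystem X N) {hZ : Z ≤ normalizerIn S X} (hXZ : X ≤ Z) :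
    Mor (normalizerSys N hZ) P f ↔ DN F (normalizerIn (normalizerIn S X) Z) X Z P f := by
  rw [mor_normalizerSystem (isNormalizerSystem_normalizerSys hZ)]
  constructor
  · rintro ⟨-, hP, hPf, g, hg, hgf, hgZ⟩
    obtain ⟨hgF, -, -, k, hk, hkg, hkX⟩ := (mor_normalizerSystem hN).1 hg
    refine ⟨hP, hPf, g, hgF, hgf, hgZ, fun y => (hkX y).trans
      ⟨fun ⟨x, hx, e⟩ => ⟨x, hx, ?_⟩, fun ⟨x, hx, e⟩ => ⟨x, hx, ?_⟩⟩⟩
    · rw [← hkg x (Subgroup.mem_sup_right (hXZ hx))]; exact e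
    · rw [hkg x (Subgroup.mem_sup_right (hXZ hx))]; exact e
  · rintro ⟨hP, hPf, g, hg, hgf, hgZ, hgX⟩
    have hPZ : P ⊔ Z ≤ normalizerIn S X := sup_le (hP.trans inf_le_left) hZ
    have hv : ∀ x ∈ P ⊔ Z, g x ∈ normalizerIn S X := fun x hx => hg.mem_of_sup
      (fun a ha => (hgf a ha).symm ▸ (hPf a ha).1) (fun a ha => hZ ((hgZ _).2 ⟨a, ha, rfl⟩)) hx
    have hgN : Mor N (P ⊔ Z) g := (mor_normalizerSystem hN).2
      ⟨hg, hPZ, hv, g, hg.mono (sup_le le_rfl (hXZ.trans le_sup_right)), fun _ _ => rfl, hgX⟩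
    exact ⟨(hgN.mono le_sup_left).congr fun x hx => (hgf x hx).symm, hP, hPf, g, hgN, hgf, hgZ⟩

theorem mor_normalizer_outer {M : FusionSystem (normalizerIn S Z)}
    (hM : F.IsNormalizerSystem Z M) {hX : X ≤ normalizerIn S Z} (hXZ : X ≤ Z) (hZS : Z ≤ S) :
    Mor (normalizerSys M hX) P f ↔ DN F (normalizerIn (normalizerIn S Z) X) X Z P f := by
  rw [mor_normalizerSystem (isNormalizerSystem_normalizerSys hX)]
  constructor
  · rintro ⟨-, hP, hPf, g, hg, hgf, hgX⟩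
    obtain ⟨-, -, -, k, hk, hkg, hkZ⟩ := (mor_normalizerSystem hM).1 hg
    refine ⟨hP, hPf, k, hk.mono (sup_le_sup_right le_sup_left Z), fun x hx => by
      rw [hkg x (Subgroup.mem_sup_left hx), hgf x hx], hkZ, fun y => (hgX y).trans
      ⟨fun ⟨x, hx, e⟩ => ⟨x, hx, ?_⟩, fun ⟨x, hx, e⟩ => ⟨x, hx, ?_⟩⟩⟩
    · rw [hkg x (Subgroup.mem_sup_right hx)]; exact e
    · rw [← hkg x (Subgroup.mem_sup_right hx)]; exact e
  · rintro ⟨hP, hPf, g, hg, hgf, hgZ, hgX⟩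
    have hPX : P ⊔ X ≤ normalizerIn S Z := sup_le (hP.trans inf_le_left) hX
    have hle : P ⊔ X ≤ P ⊔ Z := sup_le_sup_left hXZ P
    have hv : ∀ x ∈ P ⊔ X, g x ∈ normalizerIn S Z := fun x hx => (hg.mono hle).mem_of_sup
      (fun a ha => (hgf a ha).symm ▸ (hPf a ha).1) (fun a ha => hX ((hgX _).2 ⟨a, ha, rfl⟩)) hx
    have hgM : Mor M (P ⊔ X) g := (mor_normalizerSystem hM).2
      ⟨hg.mono hle, hPX, hv, g, hg.mono (sup_le hle le_sup_right), fun _ _ => rfl, hgZ⟩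
    exact ⟨(hgM.mono le_sup_left).congr fun x hx => (hgf x hx).symm, hP, hPf, g, hgM, hgf, hgX⟩

theorem dn_transport {X' Z' : Subgroup Ω} (hφ : Iso F W W' φ) (hψ : Iso F W' W ψ)
    (hψφ : ∀ x ∈ W, ψ (φ x) = x) (hZW : Z ≤ W) (hXW : X ≤ W) (hZ' : Iso F Z Z' φ)
    (hX' : Iso F X X' φ) (h : DN F W X Z P f) :
    DN F W' X' Z' (tImg φ P) (fun y => φ (f (ψ y))) := by
  obtain ⟨hP, hPf, g, hg, hgf, hgZ, hgX⟩ := h
  obtain ⟨P', hP'⟩ := (hφ.1.mono hP).exists_iso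
  have himg : tImg φ P = P' := by
    refine le_antisymm ((Subgroup.closure_le _).2 ?_) fun y hy => ?_
    · rintro _ ⟨x, hx, rfl⟩
      exact hP'.mem hx
    · obtain ⟨x, hx, rfl⟩ := hP'.exists_eq hy
      exact mem_tImg_of_mem hx
  rw [himg]
  have hP'W : P' ≤ W' := fun y hy => by
    obtain ⟨x, hx, rfl⟩ := hP'.exists_eq hy
    exact hφ.mem (hP hx)
  have hZ'W : Z' ≤ W' := fun y hy => by
    obtain ⟨x, hx, rfl⟩ := hZ'.exists_eq hy
    exact hφ.mem (hZW hx)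
  have hψ' := hψ.1.mono (sup_le hP'W hZ'W)
  have hψm : ∀ y ∈ P' ⊔ Z', ψ y ∈ P ⊔ Z := fun y hy => hψ'.mem_of_sup
    (fun a ha => by
      obtain ⟨x, hx, rfl⟩ := hP'.exists_eq ha
      rw [hψφ x (hP hx)]
      exact Subgroup.mem_sup_left hx)
    (fun a ha => by
      obtain ⟨x, hx, rfl⟩ := hZ'.exists_eq ha
      rw [hψφ x (hZW hx)]
      exact Subgroup.mem_sup_right hx) hy
  have hgW : ∀ x ∈ P ⊔ Z, g x ∈ W := fun x hx => hg.mem_of_sup
    (fun a ha => (hgf a ha).symm ▸ hPf a ha) (fun a ha => hZW ((hgZ _).2 ⟨a, ha, rfl⟩)) hx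
  refine ⟨hP'W, fun y hy => ?_, fun y => φ (g (ψ y)),
    (hψ'.comp hg hψm).comp hφ.1 fun y hy => hgW _ (hψm y hy), fun y hy => ?_, fun y => ?_, fun y => ?_⟩
  · obtain ⟨x, hx, rfl⟩ := hP'.exists_eq hy
    show φ (f (ψ (φ x))) ∈ W'
    rw [hψφ x (hP hx)]
    exact hφ.mem (hPf x hx)
  · obtain ⟨x, hx, rfl⟩ := hP'.exists_eq hy
    show φ (g (ψ (φ x))) = φ (f (ψ (φ x)))
    rw [hψφ x (hP hx), hgf x hx]
  · constructor
    · intro hy
      obtain ⟨z, hz, rfl⟩ := hZ'.exists_eq hy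
      obtain ⟨x, hx, rfl⟩ := (hgZ z).1 hz
      exact ⟨φ x, hZ'.mem hx, by show φ (g (ψ (φ x))) = _; rw [hψφ x (hZW hx)]⟩
    · rintro ⟨z, hz, rfl⟩
      obtain ⟨x, hx, rfl⟩ := hZ'.exists_eq hz
      show φ (g (ψ (φ x))) ∈ Z'
      rw [hψφ x (hZW hx)]
      exact hZ'.mem ((hgZ _).2 ⟨x, hx, rfl⟩)
  · constructor
    · intro hy
      obtain ⟨z, hz, rfl⟩ := hX'.exists_eq hy
      obtain ⟨x, hx, rfl⟩ := (hgX z).1 hz
      exact ⟨φ x, hX'.mem hx, by show φ (g (ψ (φ x))) = _; rw [hψφ x (hXW hx)]⟩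
    · rintro ⟨z, hz, rfl⟩
      obtain ⟨x, hx, rfl⟩ := hX'.exists_eq hz
      show φ (g (ψ (φ x))) ∈ X'
      rw [hψφ x (hXW hx)]
      exact hX'.mem ((hgX _).2 ⟨x, hx, rfl⟩)

/-- The transport. -/
theorem exists_transp [Finite S] (hX : F.IsFullyNormalized X) {N : FusionSystem (normalizerIn S X)}
    (hN : F.IsNormalizerSystem X N) (hZ : Z ≤ normalizerIn S X) (hXZ : X ≤ Z)
    (hNZ : normalizerIn S X ≤ normalizerIn S Z) {Z' : Subgroup Ω}
    (hφ : Mor F (normalizerIn S Z) φ) (hφZ : Iso F Z Z' φ)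
    (hφN : ∀ x ∈ normalizerIn S Z, φ x ∈ normalizerIn S Z')
    {M : FusionSystem (normalizerIn S Z')} (hM : F.IsNormalizerSystem Z' M) :
    ∃ (X' : Subgroup Ω) (hX' : X' ≤ normalizerIn S Z') (ψ : Ω → Ω),
      M.IsFullyNormalized X' ∧ Transp (normalizerSys N hZ) (normalizerSys M hX') φ ψ := by
  have hXN : X ≤ normalizerIn S X := hXZ.trans hZ
  obtain ⟨X', hX'⟩ := (hφ.mono (hXN.trans hNZ)).exists_iso
  obtain ⟨W, hW⟩ := (hφ.mono hNZ).exists_iso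
  have hX'Z : X' ≤ normalizerIn S Z' := fun y hy => by
    obtain ⟨x, hx, rfl⟩ := hX'.exists_eq hy
    exact hφN x (hNZ (hXN hx))
  have hZZ : normalizerIn (normalizerIn S X) Z = normalizerIn S X :=
    le_antisymm inf_le_left fun s hs => ⟨hs, (hNZ hs).2⟩
  have hWle : W ≤ normalizerIn (normalizerIn S Z') X' := fun y hy => by
    obtain ⟨x, hx, rfl⟩ := hW.exists_eq hy
    exact ⟨hφN x (hNZ hx), ((hφ.mono hNZ).mem_normalizerIn hXN hX' hx hx.2).2⟩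
  have hle : ∀ Q, normalizerIn (normalizerIn S Z') Q ≤ normalizerIn S Q := fun Q =>
    inf_le_inf_right _ inf_le_left
  have hbound : ∀ Q, F.IsConj X Q →
      Nat.card ↥(normalizerIn (normalizerIn S Z') Q) ≤ Nat.card (normalizerIn S X) := fun Q hQ => by
    haveI := finite_of_le (normalizerIn_le S Q)
    exact (Subgroup.card_le_of_le (hle Q)).trans (hX.2 Q hQ)
  have hWeq : W = normalizerIn (normalizerIn S Z') X' :=
    eq_of_le_of_card ((hle X').trans (normalizerIn_le S X')) hWle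
      ((hbound X' hX'.isConj).trans hW.card_eq.le)
  have hfn : M.IsFullyNormalized X' := by
    refine ⟨hX'Z, fun Q hQ => ?_⟩
    obtain ⟨g, hg⟩ := isConj_iff.1 hQ
    have hgF : Iso F X' Q g := ⟨((mor_normalizerSystem hM).1 hg.1).1, hg.2⟩
    refine le_trans (hbound Q (isConj_trans hX'.isConj hgF.isConj)) ?_
    rw [← hWeq, hW.card_eq]
  obtain ⟨ψ, hψ, hψφ, hφψ⟩ := hW.symm
  have hX'Z' : X' ≤ Z' := fun y hy => by
    obtain ⟨x, hx, rfl⟩ := hX'.exists_eq hy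
    exact hφZ.mem (hXZ hx)
  have hZ'W : Z' ≤ W := fun y hy => by
    obtain ⟨x, hx, rfl⟩ := hφZ.exists_eq hy
    exact hW.mem (hZ hx)
  have hback : ∀ {A B : Subgroup Ω}, A ≤ normalizerIn S X → Iso F A B φ → Iso F B A ψ := by
    intro A B hA hAB
    have hBW : B ≤ W := fun y hy => by
      obtain ⟨x, hx, rfl⟩ := hAB.exists_eq hy
      exact hW.mem (hA hx)
    refine ⟨hψ.1.mono hBW, fun y => ⟨fun hy => ⟨_, hAB.mem hy, hψφ y (hA hy)⟩, ?_⟩⟩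
    rintro ⟨x, hx, rfl⟩
    obtain ⟨a, ha, rfl⟩ := hAB.exists_eq hx
    rwa [hψφ a (hA ha)]
  refine ⟨X', hX'Z, ψ, hfn, ?_⟩
  refine ⟨fun x hx => hWeq ▸ hW.mem (hZZ ▸ hx), fun y hy => hZZ.symm ▸ hψ.mem (hWeq ▸ hy),
    fun x hx => hψφ x (hZZ ▸ hx), fun y hy => hφψ y (hWeq ▸ hy),
    fun x hx y hy => hW.1.map_mul (hZZ ▸ hx) (hZZ ▸ hy), fun P f hf => ?_, fun P f hf => ?_⟩
  · refine (mor_normalizer_outer hM hX'Z' hφZ.right_le).2 ?_
    have h := (mor_normalizer_inner hN hXZ).1 hf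
    rw [hZZ] at h
    rw [← hWeq]
    exact dn_transport hW hψ hψφ hZ hXN hφZ hX' h
  · refine (mor_normalizer_inner hN hXZ).2 ?_
    have h := (mor_normalizer_outer hM hX'Z' hφZ.right_le).1 hf
    rw [← hWeq] at h
    rw [hZZ]
    exact dn_transport hψ hW hφψ hZ'W (hX'Z'.trans hZ'W) (hback hZ hφZ) (hback hXN hX') h

end Cfsg.Agent.FusSys.EBal
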