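import Cfsg.Agent.FusSys.EBal.WSub
import Cfsg.Agent.FusSys.EBal.Cases
import Cfsg.Agent.FusSys.EBal.Transp
import Cfsg.Agent.FusSys.Component.Layer

/-!
Balance of components: the layer of a normalizer system lies in the layer.
-/

set_option autoImplicit false
set_option linter.unusedSectionVars false
set_option linter.style.haveILetI false
set_option linter.unusedVariables false
set_option maxHeartbeats 400000

namespace Cfsg.Agent.FusSys.EBal

open Cfsg Cfsg.FusionSystem Cfsg.Agent.FusSys Cfsg.Agent.FusSys.Component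
open scoped Pointwise

universe u

variable {Ω : Type u} [Group Ω] {p : ℕ}

theorem mapGraphs_finite {S : Subgroup Ω} [Finite S] (F : FusionSystem S) : (mapGraphs F).Finite := by
  have hSS : ((S : Set Ω) ×ˢ (S : Set Ω)).Finite :=
    (Set.toFinite (S : Set Ω)).prod (Set.toFinite (S : Set Ω))
  refine hSS.powerset.subset ?_
  rintro s ⟨P, f, hf, rfl⟩ z ⟨x, hx, rfl⟩
  exact ⟨hf.le hx, hf.mem_S hx⟩

/-- Components of normalizer systems lie over the layer. -/
theorem component_le [Fact p.Prime] : ∀ (n : ℕ) (S : Subgroup Ω) [Finite S] (F : FusionSystem S),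
    (mapGraphs F).ncard ≤ n → IsPGroup p S → F.IsSaturated p → ∀ (T : Subgroup Ω) (E : FusionSystem T),
    E.IsLayerOf F p → ∀ (X : Subgroup Ω), F.IsFullyNormalized X →
    ∀ (N : FusionSystem (normalizerIn S X)), F.IsNormalizerSystem X N →
    ∀ (U : Subgroup Ω) (C : FusionSystem U), C.IsComponentIn N p → U ≤ T := by
  intro n
  induction n using Nat.strong_induction_on with
  | _ n ih =>
    intro S _ F hn hS hF T E hE
    let Bad : Set (Subgroup Ω) := {X | F.IsFullyNormalized X ∧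
      ∃ N : FusionSystem (normalizerIn S X), F.IsNormalizerSystem X N ∧
        ∃ (U : Subgroup Ω) (C : FusionSystem U), C.IsComponentIn N p ∧ ¬ U ≤ T}
    suffices h : Bad = ∅ by
      intro X hX N hN U C hC
      by_contra hU
      exact (Set.eq_empty_iff_forall_notMem.1 h) X ⟨hX, N, hN, U, C, hC, hU⟩
    by_contra hne
    have hfin : Bad.Finite := (finite_subgroups_le (S := S) (· ∈ Bad) fun X hX => hX.1.1)
    obtain ⟨X, hXB, hmax⟩ := hfin.exists_maximalFor (fun X : Subgroup Ω => Nat.card X) _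
      (Set.nonempty_iff_ne_empty.2 hne)
    obtain ⟨hX, N, hN, U, C, hC, hU⟩ := hXB
    have hbig : ∀ Y : Subgroup Ω, Nat.card X < Nat.card Y → Y ∉ Bad := fun Y hlt hY =>
      absurd (hmax hY hlt.le) (not_le.2 hlt)
    have hNsat := normalizerSystem_saturated hS hF hX hN
    have hNS : normalizerIn S X ≤ S := inf_le_left
    haveI : Finite (normalizerIn S X) := finite_of_le hNS
    have hSN : IsPGroup p (normalizerIn S X) := hS.to_le hNS
    have hyp : ProdS.Hyp p F E := ⟨hS, hE.1⟩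
    obtain ⟨W, hW, -⟩ := exists_normal_part hyp hX hN
    obtain ⟨Q, hQd⟩ : ∃ Q, Q = F.core := ⟨_, rfl⟩
    have hQ : F.IsNormal Q := hQd ▸ isNormal_core
    have hXN : X ≤ normalizerIn S X := le_normalizerIn hX.1
    have hA : N.IsNormal (X ⊔ (Q ⊓ normalizerIn S X)) := by
      refine isNormal_iff.2 ⟨sup_le hXN inf_le_right, fun P f hf => ?_⟩
      obtain ⟨-, hP, hPf, k, hk, hkf, hkX⟩ := (mor_normalizerSystem hN).1 hf
      obtain ⟨g, hg, hgk, hgQ⟩ := (isNormal_iff.1 hQ).2 _ k hk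
      have hle : P ⊔ (X ⊔ (Q ⊓ normalizerIn S X)) ≤ P ⊔ X ⊔ Q :=
        sup_le (le_sup_left.trans le_sup_left)
          (sup_le (le_sup_right.trans le_sup_left) (inf_le_left.trans le_sup_right))
      have hgX : ∀ y, y ∈ X ↔ ∃ x ∈ X, g x = y := fun y => (hkX y).trans
        ⟨fun ⟨x, hx, e⟩ => ⟨x, hx, by rw [hgk x (Subgroup.mem_sup_right hx)]; exact e⟩,
          fun ⟨x, hx, e⟩ => ⟨x, hx, by rw [← hgk x (Subgroup.mem_sup_right hx)]; exact e⟩⟩
      have hXX : Iso F X X g := ⟨hg.mono (le_sup_right.trans le_sup_left), hgX⟩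
      have hQN : ∀ q ∈ Q ⊓ normalizerIn S X, g q ∈ Q ⊓ normalizerIn S X := fun q hq =>
        ⟨(hgQ _).2 ⟨q, hq.1, rfl⟩,
          (hg.mem_normalizerIn (le_sup_right.trans le_sup_left) hXX (Subgroup.mem_sup_right hq.1) hq.2.2)⟩
      have hm := hg.mono hle
      have hAst : ∀ y ∈ X ⊔ (Q ⊓ normalizerIn S X), g y ∈ X ⊔ (Q ⊓ normalizerIn S X) := fun y hy =>
        (hm.mono le_sup_right).mem_of_sup (fun a ha => Subgroup.mem_sup_left (hXX.mem ha))
          (fun a ha => Subgroup.mem_sup_right (hQN a ha)) hy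
      have hgf : ∀ x ∈ P, g x = f x := fun x hx => by rw [hgk x (Subgroup.mem_sup_left hx), hkf x hx]
      have hPA : P ⊔ (X ⊔ (Q ⊓ normalizerIn S X)) ≤ normalizerIn S X :=
        sup_le hP (sup_le hXN inf_le_right)
      refine ⟨g, (mor_normalizerSystem hN).2 ⟨hm, hPA, fun y hy => hm.mem_of_sup
          (fun a ha => (hgf a ha).symm ▸ hPf a ha)
          (fun a ha => (sup_le hXN inf_le_right : X ⊔ (Q ⊓ normalizerIn S X) ≤ _) (hAst a ha)) hy,
        g, hg.mono (sup_le hle (le_sup_right.trans le_sup_left)), fun _ _ => rfl, hgX⟩, hgf,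
        (AM.iso_of_stable (hm.mono le_sup_right) hAst).2⟩
    have hUB : ¬ U ≤ T ⊓ normalizerIn S X := fun h => hU (h.trans inf_le_left)
    obtain ⟨hZN, V, D, hD, hVZ, hZc, hCD, hDsub⟩ := component_fix hSN hNsat hA hW hC hUB
    obtain ⟨Z, hZd⟩ : ∃ Z, Z = X ⊔ (Q ⊓ normalizerIn S X) ⊔ (T ⊓ normalizerIn S X) := ⟨_, rfl⟩
    revert hDsub hVZ hZc
    revert hZN
    rw [← hZd]
    intro hZN hVZ hZc hDsub
    have hXZ : X ≤ Z := hZd ▸ le_sup_left.trans le_sup_left
    have hQZ : Q ⊓ normalizerIn S X ≤ Z := hZd ▸ le_sup_right.trans le_sup_left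
    have hTZ : T ⊓ normalizerIn S X ≤ Z := hZd ▸ le_sup_right
    have hCZ : ∀ P f, Mor C P f → Mor (centralizerSys N hZN) P f := fun P f hf =>
      isSubsystemOf_iff_mor.1 hDsub P f (subnormal_mor hCD.1 P f hf)
    by_cases hXQ : X ≤ Q
    · subst hQd
      exact hU (le_of_core hS hF hE hX hXQ hN hC hQZ hCZ)
    by_cases hZX : Z ≤ X
    · have hTX : T ≤ X := le_of_normalizer_le hS hX.1 hE.1.1.2.2.2.1 (hTZ.trans hZX)
      have hQX : Q ≤ X := le_of_normalizer_le hS hX.1 (stronglyClosed_of_isNormal hQ) (hQZ.trans hZX)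
      have hUZ : U ≤ centralizerIn (normalizerIn S X) Z :=
        (isSubsystemOf_iff_mor.1 hDsub U id (subnormal_mor hCD.1 U id (mor_id le_rfl))).le
      refine false_of_centralizes hS hF hE hC.2 (fun P f hf => ?_) ?_
      · obtain ⟨hfN, hP, hPf, k, hk, hkf, hkZ⟩ :=
          (mor_centralizerSystem (isCentralizerSystem_centralizerSys hZN)).1 (hCZ P f hf)
        have hTZ' : T ≤ Z := hTX.trans hXZ
        have hc : ∀ {x : Ω}, x ∈ centralizerIn (normalizerIn S X) Z → x ∈ centralizerIn S T :=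
          fun hx => ⟨hx.1.1, Subgroup.centralizer_le hTZ' hx.2⟩
        exact (mor_centralizerSystem (isCentralizerSystem_centralizerSys hE.1.1.2.2.2.1.1)).2
          ⟨((mor_normalizerSystem hN).1 hfN).1, fun x hx => hc (hP hx), fun x hx => hc (hPf x hx), k,
            ((mor_normalizerSystem hN).1 hk).1.mono (sup_le_sup_left hTZ' P), hkf,
            fun t ht => hkZ t (hTZ' ht)⟩
      · subst hQd
        exact fun u hu => ⟨(hUZ hu).1.1, Subgroup.centralizer_le (hQX.trans hXZ) (hUZ hu).2⟩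
    have hZS : Z ≤ S := hZN.trans hNS
    have hNZ : normalizerIn S X ≤ normalizerIn S Z := fun s hs =>
      ⟨hs.1, StronglyClosed.le_normalizer hZc hs⟩
    have hlt : Nat.card X < Nat.card Z :=
      card_lt_of_lt' hZS (lt_of_le_of_ne hXZ fun e => hZX e.ge)
    have hCK := component_normalizer hSN hNsat hZN hZc hD hVZ hDsub hCD
    obtain ⟨Z', φ, hZ'n, hφ, hφZ, hφN⟩ := exists_fullyNormalized_mor hS hF hZS
    have hM := isNormalizerSystem_normalizerSys (F := F) hZ'n.1
    have hMS : normalizerIn S Z' ≤ S := inf_le_left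
    haveI : Finite (normalizerIn S Z') := finite_of_le hMS
    have hSM : IsPGroup p (normalizerIn S Z') := hS.to_le hMS
    have hMsat := normalizerSystem_saturated hS hF hZ'n hM
    obtain ⟨X', hX', ψ, hX'n, htr⟩ := exists_transp hX hN hZN hXZ hNZ hφ hφZ hφN hM
    haveI : Finite ↥(normalizerIn (normalizerIn S X) Z) := finite_of_le inf_le_left
    obtain ⟨-, U', C', hC't, hC'⟩ := htr.component (hSN.to_le inf_le_left) hCK
    -- the normalizer system of `Z'` is smaller
    have hproper : (mapGraphs (normalizerSys F hZ'n.1)).ncard < n := by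
      refine lt_of_lt_of_le (Set.ncard_lt_ncard ?_ (mapGraphs_finite F)) hn
      refine ⟨mapGraphs_mono fun P f hf => ((mor_normalizerSystem hM).1 hf).1, fun hsub => hXQ ?_⟩
      have hZ'Q : Z' ≤ Q := by
        rw [hQd]
        refine le_core (isNormal_iff.2 ⟨hZ'n.1, fun P f hf => ?_⟩)
        obtain ⟨-, -, -, k, hk, hkf, hkZ⟩ := (mor_normalizerSystem hM).1 (mor_of_mapGraphs hsub hf)
        exact ⟨k, hk, hkf, hkZ⟩
      obtain ⟨φ', hφ', hφ'φ, -⟩ := hφZ.symm
      intro x hx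
      have h1 := StronglyClosed.mor_mem (stronglyClosed_of_isNormal hQ) hφ'.1
        (hφZ.mem (hXZ hx)) (hZ'Q (hφZ.mem (hXZ hx)))
      rwa [hφ'φ x (hXZ hx)] at h1
    obtain ⟨T₁, E₁, hE₁⟩ := exists_layer hSM hMsat
    have hU' : U' ≤ T₁ := ih _ hproper (normalizerIn S Z') (normalizerSys F hZ'n.1) le_rfl hSM hMsat
      T₁ E₁ hE₁ X' hX'n _ (isNormalizerSystem_normalizerSys hX') U' C' hC'
    have hZ'big : Z' ∉ Bad := hbig Z' (hφZ.card_eq ▸ hlt)
    obtain ⟨W', hW', -⟩ := exists_normal_part hyp hZ'n hM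
    have hall : ∀ (R : Subgroup Ω) (D₁ : FusionSystem R),
        D₁.IsComponentIn (normalizerSys F hZ'n.1) p → D₁.IsSubsystemOf W' := fun R D₁ hD₁ =>
      component_sub hSM hD₁ hW' (le_inf (by
        by_contra h
        exact hZ'big ⟨hZ'n, _, hM, R, D₁, hD₁, h⟩) (subnormal_le hD₁.1))
    have hT₁ : T₁ ≤ T ⊓ normalizerIn S Z' :=
      (isSubsystemOf_iff_mor.1 (hE₁.2.2 _ W' hW' hall) T₁ id (mor_id le_rfl)).le
    refine hU fun u hu => ?_
    have huN : u ∈ normalizerIn S X := subnormal_le hC.1 hu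
    have h1 : φ u ∈ T := (hT₁ (hU' (hC't.map_mem u hu))).1
    have h2 := (hφ.mono hNZ).exists_iso
    obtain ⟨W₀, hW₀⟩ := h2
    obtain ⟨r, hr, hrφ, -⟩ := hW₀.symm
    have h3 := StronglyClosed.mor_mem hE.1.1.2.2.2.1 hr.1 (hW₀.mem huN) h1
    rwa [hrφ u huN] at h3

/-- The layer of a normalizer system lies in the layer. -/
theorem layer_balance [Fact p.Prime] {S T U X : Subgroup Ω} [Finite S] (hS : IsPGroup p S)
    {F : FusionSystem S} (hF : F.IsSaturated p) (hX : F.IsFullyNormalized X)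
    {N : FusionSystem (normalizerIn S X)} (hN : F.IsNormalizerSystem X N) {EN : FusionSystem U}
    (hEN : EN.IsLayerOf N p) {E : FusionSystem T} (hE : E.IsLayerOf F p) : EN.IsSubsystemOf E := by
  have hNS : normalizerIn S X ≤ S := inf_le_left
  haveI : Finite (normalizerIn S X) := finite_of_le hNS
  obtain ⟨W, hW, hWE⟩ := exists_normal_part (⟨hS, hE.1⟩ : ProdS.Hyp p F E) hX hN
  have h := hEN.2.2 _ W hW fun R C hC => component_sub (hS.to_le hNS) hC hW
    (le_inf (component_le _ S F le_rfl hS hF T E hE X hX N hN R C hC) (subnormal_le hC.1))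
  exact fun P φ hφ => hWE P (h P hφ)

end Cfsg.Agent.FusSys.EBal
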