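import Cfsg.Agent.FusSys.ProdS.ProdRes

/-!
Maps of the product system are pushed along maps of `F` defined on the part in `T` as well.
-/

set_option autoImplicit false
set_option linter.unusedSectionVars false
set_option linter.style.haveILetI false
set_option linter.unusedVariables false

namespace Cfsg.Agent.FusSys.ProdS

open Cfsg Cfsg.FusionSystem Cfsg.Agent.FusSys

universe u

variable {Ω : Type u} [Group Ω] {S T : Subgroup Ω} {F : FusionSystem S} {E : FusionSystem T}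
variable {P Q R A B : Subgroup Ω} {f g : Ω → Ω} {p : ℕ} {s s' : Ω}

/-- Trivial modulo `T` up to conjugation by `s`, and pushed along maps defined on `A ⊔ T`. -/
def Push (p : ℕ) (F : FusionSystem S) (E : FusionSystem T) (A : Subgroup Ω) (f : Ω → Ω) (s : Ω) :
    Prop :=
  s ∈ S ∧ Mor (prodSys p F E) A f ∧ (∀ x ∈ A, (s * x * s⁻¹)⁻¹ * f x ∈ T) ∧
    ∀ (β : Ω → Ω) (A' : Subgroup Ω), Mor F (A ⊔ T) β → Iso F A A' β →
      ∃ k, Mor (prodSys p F E) A' k ∧ ∀ x ∈ A, k (β x) = β (s⁻¹ * f x * s)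

namespace Hyp

variable (hyp : Hyp p F E)
include hyp

theorem push_mem (h : Push p F E A f s) {x : Ω} (hx : x ∈ A) :
    s⁻¹ * f x * s ∈ A ⊔ T := by
  have h1 := hyp.diff_mem (S.inv_mem h.1) (h.2.2.1 x hx)
  rw [inv_inv] at h1
  rw [show s⁻¹ * f x * s = x * (s⁻¹ * ((s * x * s⁻¹)⁻¹ * f x) * s) by group]
  exact mul_mem (Subgroup.mem_sup_left hx) (Subgroup.mem_sup_right h1)

theorem push_mem' (h : Push p F E A f s) {B : Subgroup Ω} (hB : ∀ x ∈ A, f x ∈ B) {x : Ω}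
    (hx : x ∈ A) : s * x * s⁻¹ ∈ B ⊔ T := by
  rw [show s * x * s⁻¹ = f x * ((s * x * s⁻¹)⁻¹ * f x)⁻¹ by group]
  exact mul_mem (Subgroup.mem_sup_left (hB x hx)) (Subgroup.mem_sup_right (T.inv_mem (h.2.2.1 x hx)))

theorem conj_T_mem {t : Ω} (hs : s ∈ S) (ht : t ∈ T) : s * t * s⁻¹ ∈ T := hyp.diff_mem hs ht

theorem conjMor (hA : A ≤ S) (hs : s ∈ S) : Mor F (A ⊔ T) (fun y => s * y * s⁻¹) :=
  mor_conj (sup_le hA hyp.T_le) hs

theorem push_conj (hA : A ≤ S) (hs : s ∈ S) : Push p F E A (fun x => s * x * s⁻¹) s := by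
  refine ⟨hs, mor_conj hA hs, fun x hx => by rw [inv_mul_cancel]; exact T.one_mem,
    fun β A' hβ hi => ⟨id, mor_id hi.right_le, fun x hx => ?_⟩⟩
  show β x = _
  congr 1
  group

theorem push_id (hA : A ≤ S) : Push p F E A id 1 := by
  obtain ⟨h1, h2, h3, h4⟩ := hyp.push_conj hA S.one_mem
  refine ⟨h1, h2.congr fun x _ => by simp, fun x hx => by simp [T.one_mem], fun β A' hβ hi => ?_⟩
  obtain ⟨k, hk, hkx⟩ := h4 β A' hβ hi
  exact ⟨k, hk, fun x hx => (hkx x hx).trans (by simp)⟩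

theorem push_congr (h : Push p F E A f s) (he : ∀ x ∈ A, g x = f x) : Push p F E A g s := by
  obtain ⟨h1, h2, h3, h4⟩ := h
  refine ⟨h1, h2.congr he, fun x hx => by rw [he x hx]; exact h3 x hx, fun β A' hβ hi => ?_⟩
  obtain ⟨k, hk, hkx⟩ := h4 β A' hβ hi
  exact ⟨k, hk, fun x hx => by rw [he x hx]; exact hkx x hx⟩

theorem push_comp (hf : Iso F A B f) (h : Push p F E A f s) (h' : Push p F E B g s') :
    Push p F E A (g ∘ f) (s' * s) := by
  have hBS : B ≤ S := hf.right_le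
  refine ⟨S.mul_mem h'.1 h.1, h.2.1.comp h'.2.1 fun x hx => hf.mem hx, fun x hx => ?_,
    fun β A' hβ hi => ?_⟩
  · show (s' * s * x * (s' * s)⁻¹)⁻¹ * g (f x) ∈ T
    rw [show (s' * s * x * (s' * s)⁻¹)⁻¹ * g (f x) =
      s' * ((s * x * s⁻¹)⁻¹ * f x) * s'⁻¹ * ((s' * f x * s'⁻¹)⁻¹ * g (f x)) by group]
    exact T.mul_mem (hyp.conj_T_mem h'.1 (h.2.2.1 x hx)) (h'.2.2.1 _ (hf.mem hx))
  · have hc := hyp.conjMor hBS (S.inv_mem h.1)
    have hcm : ∀ y ∈ B ⊔ T, s⁻¹ * y * s⁻¹⁻¹ ∈ A ⊔ T := fun y hy => hc.mem_of_sup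
      (fun a ha => by
        obtain ⟨x, hx, rfl⟩ := hf.exists_eq ha
        rw [inv_inv]
        exact hyp.push_mem h hx)
      (fun a ha => Subgroup.mem_sup_right (hyp.conj_T_mem (S.inv_mem h.1) ha)) hy
    have hβ₂ := hc.comp hβ hcm
    obtain ⟨B', hB'⟩ := (hβ₂.mono le_sup_left).exists_iso
    obtain ⟨k₁, hk₁, hk₁x⟩ := h.2.2.2 β A' hβ hi
    obtain ⟨k₂, hk₂, hk₂x⟩ := h'.2.2.2 _ B' hβ₂ hB'
    have e : ∀ x ∈ A, k₁ (β x) = β (s⁻¹ * f x * s⁻¹⁻¹) := fun x hx => by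
      rw [inv_inv]; exact hk₁x x hx
    refine ⟨k₂ ∘ k₁, hk₁.comp hk₂ fun y hy => ?_, fun x hx => ?_⟩
    · obtain ⟨x, hx, rfl⟩ := hi.exists_eq hy
      rw [e x hx]
      exact hB'.mem (hf.mem hx)
    · show k₂ (k₁ (β x)) = β ((s' * s)⁻¹ * g (f x) * (s' * s))
      rw [e x hx]
      refine (hk₂x _ (hf.mem hx)).trans ?_
      show β (s⁻¹ * (s'⁻¹ * g (f x) * s') * s⁻¹⁻¹) = _
      congr 1
      group

theorem push_inv (h : Push p F E A f s) (hf : Iso (prodSys p F E) A B f)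
    (hg : Iso (prodSys p F E) B A g) (hgf : ∀ x ∈ A, g (f x) = x) : Push p F E B g s⁻¹ := by
  refine ⟨S.inv_mem h.1, hg.1, fun y hy => ?_, fun β B' hβ hi => ?_⟩
  · obtain ⟨x, hx, rfl⟩ := hf.exists_eq hy
    rw [hgf x hx]
    have h1 := hyp.conj_T_mem (S.inv_mem h.1) (T.inv_mem (h.2.2.1 x hx))
    convert h1 using 1
    group
  · have hc := hyp.conjMor hf.left_le h.1
    have hcm : ∀ y ∈ A ⊔ T, s * y * s⁻¹ ∈ B ⊔ T := fun y hy => hc.mem_of_sup
      (fun a ha => hyp.push_mem' h (fun x hx => hf.mem hx) ha)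
      (fun a ha => Subgroup.mem_sup_right (hyp.conj_T_mem h.1 ha)) hy
    have hβ₁ := hc.comp hβ hcm
    obtain ⟨A₁, hA₁⟩ := (hβ₁.mono le_sup_left).exists_iso
    obtain ⟨k, hk, hkx⟩ := h.2.2.2 _ A₁ hβ₁ hA₁
    have e : ∀ x ∈ A, k (β (s * x * s⁻¹)) = β (f x) := fun x hx => by
      refine (hkx x hx).trans ?_
      show β (s * (s⁻¹ * f x * s) * s⁻¹) = _
      congr 1
      group
    have hki : Iso (prodSys p F E) A₁ B' k := by
      refine ⟨hk, fun z => ⟨fun hz => ?_, ?_⟩⟩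
      · obtain ⟨y, hy, rfl⟩ := hi.exists_eq hz
        obtain ⟨x, hx, rfl⟩ := hf.exists_eq hy
        exact ⟨_, hA₁.mem hx, e x hx⟩
      · rintro ⟨w, hw, rfl⟩
        obtain ⟨x, hx, rfl⟩ := hA₁.exists_eq hw
        show k (β (s * x * s⁻¹)) ∈ B'
        rw [e x hx]
        exact hi.mem (hf.mem hx)
    obtain ⟨k', hk', hk'k, -⟩ := hki.symm
    refine ⟨k', hk'.1, fun y hy => ?_⟩
    obtain ⟨x, hx, rfl⟩ := hf.exists_eq hy
    rw [← e x hx, hgf x hx, inv_inv]
    exact hk'k _ (hA₁.mem hx)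

variable [Finite S]

theorem push_gen (hR : TCP S E R) {α : MulAut R} (hα : α ∈ A0 p F E R) :
    ∀ A, A ≤ R → Push p F E A (apl α) 1 := by
  haveI := hyp.finite_T
  have hRS := hR.1
  have hstep : ∀ {a : MulAut R}, a ∈ A0 p F E R → ∀ A, A ≤ R →
      ∃ B, B ≤ R ∧ Iso (prodSys p F E) A B (apl a) := fun {a} ha A hA => by
    obtain ⟨B, hB⟩ := ((mor_gen hR ha).mono hA).exists_iso
    refine ⟨B, fun y hy => ?_, hB⟩
    obtain ⟨x, hx, rfl⟩ := hB.exists_eq hy
    exact apl_mem a (hA hx)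
  induction hα using Subgroup.closure_induction with
  | one => exact fun A hA => hyp.push_congr (hyp.push_id (hA.trans hRS)) fun x hx => apl_one (hA hx)
  | mul a b ha hb iha ihb =>
    intro A hA
    obtain ⟨B, hBR, hB⟩ := hstep hb A hA
    have h := hyp.push_comp (prod_iso_F hB) (ihb A hA) (iha B hBR)
    rw [mul_one] at h
    exact hyp.push_congr h fun x hx => apl_mul a b (hA hx)
  | inv a ha iha =>
    intro A hA
    obtain ⟨B, hBR, hB⟩ := hstep (inv_mem ha) A hA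
    have hback : Iso (prodSys p F E) B A (apl a) := by
      refine ⟨(mor_gen hR ha).mono hBR, fun x => ⟨fun hx => ⟨_, hB.mem hx, apl_apl_inv a (hA hx)⟩, ?_⟩⟩
      rintro ⟨y, hy, rfl⟩
      obtain ⟨x, hx, rfl⟩ := hB.exists_eq hy
      rwa [apl_apl_inv a (hA hx)]
    have h := hyp.push_inv (iha B hBR) hback hB fun y hy => apl_inv_apl a (hBR hy)
    rwa [inv_one] at h
  | mem a ha =>
    intro A hA
    obtain ⟨haF, hco, hd, he⟩ := ha
    have hAS := hA.trans hRS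
    obtain ⟨R', hR'⟩ : ∃ R', R' = R ⊓ (A ⊔ T) := ⟨_, rfl⟩
    have hR'R : R' ≤ R := hR' ▸ inf_le_left
    have hR'T : R ⊓ T ≤ R' ⊓ T := le_inf (hR' ▸ inf_le_inf_left R le_sup_right) inf_le_right
    have hst : ∀ x ∈ R', apl a x ∈ R' := fun x hx => by
      rw [hR'] at hx ⊢
      refine ⟨apl_mem a hx.1, ?_⟩
      rw [show apl a x = x * (x⁻¹ * apl a x) by group]
      exact mul_mem hx.2 (Subgroup.mem_sup_right (hd x hx.1))
    obtain ⟨c, hc, hco', hcx⟩ := exists_restrict hR'R hRS haF hst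
    have hTR' : TCP S E R' := ⟨hR'R.trans hRS, centric_of_le hR.2 hR'T inf_le_right⟩
    have hk : KAut E R' c := ⟨fun x hx => by rw [hcx x hx]; exact hd x (hR'R hx),
      (he.mono (inf_le_inf_right _ hR'R)).congr fun x hx => hcx x hx.1⟩
    have hc0 : c ∈ A0 p F E R' := hyp.mem_A0 hc (Nat.Coprime.coprime_dvd_left hco' hco) hk
    have hAR' : A ≤ R' := hR' ▸ le_inf hA le_sup_left
    refine ⟨S.one_mem, (mor_gen hR (Subgroup.subset_closure ⟨haF, hco, hd, he⟩)).mono hA,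
      fun x hx => ?_, fun β A' hβ hi => ?_⟩
    · rw [show ((1 : Ω) * x * 1⁻¹)⁻¹ * apl a x = x⁻¹ * apl a x by group]
      exact hd x (hA hx)
    · obtain ⟨R'', hR''⟩ := (hβ.mono (hR' ▸ inf_le_right : R' ≤ A ⊔ T)).exists_iso
      have h0 := hyp.A0_transport hR'' hc0
      refine ⟨_, (mor_gen (hyp.tcp_iso hTR' hR'') h0).mono fun y hy => ?_, fun x hx => ?_⟩
      · obtain ⟨x, hx, rfl⟩ := hi.exists_eq hy
        exact hR''.mem (hAR' hx)
      · rw [hR''.conjAut_apl c (hAR' hx), hcx x (hAR' hx)]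
        congr 1
        group

/-- Every map of the product system is pushed along maps on `A ⊔ T`. -/
theorem push_all (hf : Mor (prodSys p F E) P f) : ∀ A, A ≤ P → ∃ s, Push p F E A f s := by
  have hM : SubRel F S (fun P f => Mor (prodSys p F E) P f ∧ ∀ A, A ≤ P → ∃ s, Push p F E A f s) :=
    { congr := fun h he => ⟨h.1.congr he, fun A hA => by
        obtain ⟨s, hs⟩ := h.2 A hA
        exact ⟨s, hyp.push_congr hs fun x hx => he x (hA hx)⟩⟩
      le := fun h => ⟨h.1.le, fun x hx => h.1.mem_S hx⟩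
      conj := fun {P s} hP hs => ⟨mor_conj hP hs, mor_conj hP hs,
        fun A hA => ⟨s, hyp.push_conj (hA.trans hP) hs⟩⟩
      comp := fun {P Q f g} _ hMf _ hMg hfQ => ⟨hMf.1.comp hMg.1 hfQ, fun A hA => by
        obtain ⟨B, hB⟩ := (hMf.1.mono hA).exists_iso
        have hBQ : B ≤ Q := fun y hy => by
          obtain ⟨x, hx, rfl⟩ := hB.exists_eq hy
          exact hfQ x (hA hx)
        obtain ⟨s, hs⟩ := hMf.2 A hA
        obtain ⟨s', hs'⟩ := hMg.2 B hBQ
        exact ⟨_, hyp.push_comp (prod_iso_F hB) hs hs'⟩⟩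
      inv := fun {P Q f g} hfF hMf hgF hgf => by
        have hf : Iso (prodSys p F E) P Q f := ⟨hMf.1, hfF.2⟩
        obtain ⟨g₀, hg₀, hg₀f, -⟩ := hf.symm
        have hgD : Iso (prodSys p F E) Q P g := hg₀.congr fun y hy => by
          obtain ⟨x, hx, rfl⟩ := hf.exists_eq hy
          rw [hg₀f x hx, hgf x hx]
        refine ⟨hgD.1, fun A hA => ?_⟩
        obtain ⟨B, hB⟩ := (hgD.1.mono hA).exists_iso
        have hBP : B ≤ P := fun x hx => by
          obtain ⟨y, hy, rfl⟩ := hB.exists_eq hx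
          exact hgD.mem (hA hy)
        have hfg : ∀ y ∈ A, f (g y) = y := fun y hy => by
          obtain ⟨x, hx, rfl⟩ := hf.exists_eq (hA hy)
          rw [hgf x hx]
        have hfB : Iso (prodSys p F E) B A f := by
          refine ⟨hMf.1.mono hBP, fun y => ⟨fun hy => ⟨g y, hB.mem hy, hfg y hy⟩, ?_⟩⟩
          rintro ⟨x, hx, rfl⟩
          obtain ⟨y, hy, rfl⟩ := hB.exists_eq hx
          rwa [hfg y hy]
        obtain ⟨s, hs⟩ := hMf.2 B hBP
        exact ⟨_, hyp.push_inv hs hfB hB fun x hx => hgf x (hBP hx)⟩ }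
  exact ((mor_prod.1 hf).2 _ hM fun R α hR hα =>
    ⟨mor_gen hR hα, fun A hA => ⟨1, hyp.push_gen hR hα A hA⟩⟩).2

/-- Automorphisms of order prime to `p` of the product system are carried by maps on `P ⊔ T`. -/
theorem conjAut_mem_prod_of_ext (hβ : Mor F (P ⊔ T) f) (hi : Iso F P Q f) {α : MulAut P}
    (hα : α ∈ (prodSys p F E).autGroup P) (hco : (orderOf α).Coprime p) :
    hi.conjAut α ∈ (prodSys p F E).autGroup Q := by
  have hPS := hi.left_le
  obtain ⟨s, hs⟩ := hyp.push_all (iso_apl hPS hα).1 P le_rfl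
  have hpow : ∀ k : ℕ, Push p F E P (apl (α ^ k)) (s ^ k) := by
    intro k
    induction k with
    | zero =>
      rw [pow_zero, pow_zero]
      exact hyp.push_congr (hyp.push_id hPS) fun x hx => apl_one hx
    | succ k ih =>
      rw [pow_succ' s]
      exact hyp.push_congr (hyp.push_comp (prod_iso_F (iso_apl hPS (pow_mem hα k))) ih hs)
        fun x hx => by rw [pow_succ', apl_mul _ _ hx]; rfl
  obtain ⟨i, hi'⟩ := hyp.pS ⟨s, hs.1⟩
  have hsi : s ^ p ^ i = 1 := congrArg Subtype.val hi'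
  obtain ⟨n, hn1, hn0⟩ := exists_pow_one_mod (hco.pow_right i)
  obtain ⟨c, rfl⟩ := Nat.modEq_zero_iff_dvd.1 hn0
  have h := hpow (p ^ i * c)
  rw [show α ^ (p ^ i * c) = α by conv_rhs => rw [← pow_one α]
                                  exact pow_eq_pow_iff_modEq.2 hn1,
    pow_mul, hsi, one_pow] at h
  obtain ⟨k, hk, hkx⟩ := h.2.2.2 f Q hβ hi
  refine (mem_autGroup_iff hi.right_le).2 ⟨hk.congr fun y hy => ?_,
    (iso_apl hi.right_le (hi.conjAut_mem (autGroup_le_of_sub prod_sub hα))).2⟩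
  obtain ⟨x, hx, rfl⟩ := hi.exists_eq hy
  rw [hkx x hx, hi.conjAut_apl α hx]
  congr 1
  group

end Hyp

end Cfsg.Agent.FusSys.ProdS
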