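import Cfsg.Agent.FusSys.EBal.Gf
import Cfsg.Agent.FusSys.ResidualNormal
import Cfsg.Agent.FusSys.InvariantCrit
import Cfsg.Agent.FusSys.TransportNormal
import Cfsg.Agent.FusSys.KNorm
import Cfsg.Agent.FusSys.Criteria

/-!
A normal subsystem inside `E` of the normalizer system of a fully normalized subgroup, over the
part in `T` of the normalizer.
-/

set_option autoImplicit false
set_option linter.unusedSectionVars false
set_option linter.style.haveILetI false
set_option linter.unusedVariables false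

namespace Cfsg.Agent.FusSys.EBal

open Cfsg Cfsg.FusionSystem Cfsg.Agent.FusSys Cfsg.Agent.FusSys.ProdS

universe u

variable {Ω : Type u} [Group Ω] {S T X P Q : Subgroup Ω} {F : FusionSystem S} {E : FusionSystem T}
variable {N : FusionSystem (normalizerIn S X)} {f g : Ω → Ω} {p : ℕ}
variable (hyp : Hyp p F E) [Fact p.Prime] [Finite S] (hX : F.IsFullyNormalized X)
variable (hN : F.IsNormalizerSystem X N)
include hyp hX hN

theorem mor_ND {hXS : X ≤ S} :
    Mor (normalizerSys (prodSys p F E) hXS) P f ↔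
      Mor (prodSys p F E) P f ∧ NRel (prodSys p F E) X P f :=
  mor_normalizerSystem (isNormalizerSystem_normalizerSys hXS)

theorem ND_sub : (normalizerSys (prodSys p F E) hX.1).IsSubsystemOf N :=
  sub_of_mor fun P f hf => by
    obtain ⟨h, h1, h2, k, hk, hkf, hkX⟩ := (mor_ND hyp hX hN).1 hf
    exact (mor_normalizerSystem hN).2 ⟨prod_mor_F h, h1, h2, k, prod_mor_F hk, hkf, hkX⟩

theorem fn_prod : (prodSys p F E).IsFullyNormalized X := by
  refine ⟨hX.1, fun R hR => ?_⟩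
  obtain ⟨k, hk⟩ := isConj_iff.1 hR
  exact hX.2 R (prod_iso_F hk).isConj

theorem ND_sat : (normalizerSys (prodSys p F E) hX.1).IsSaturated p :=
  normalizerSystem_saturated hyp.pS hyp.prod_saturated (fn_prod hyp hX hN)
    (isNormalizerSystem_normalizerSys hX.1)

theorem pNS : IsPGroup p (normalizerIn S X) := hyp.pS.to_le inf_le_left

theorem scTX : N.StronglyClosed (T ⊓ normalizerIn S X) := by
  refine stronglyClosed_iff.2 ⟨inf_le_right, fun R f hR hf x hx => ⟨?_, hf.mem_S hx⟩⟩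
  exact StronglyClosed.mor_mem hyp.sc ((mor_normalizerSystem hN).1 hf).1 hx (hR hx).1

theorem ND_hyp_le :
    (normalizerSys (prodSys p F E) hX.1).hyperfocalSubgroup p ≤ T ⊓ normalizerIn S X := by
  haveI : Finite (normalizerIn S X) := finite_of_le inf_le_left
  refine (Subgroup.closure_le _).2 ?_
  rintro _ ⟨R, α, x, hR, hα, rfl⟩
  haveI := finite_of_le hR
  rw [← apl_coe]
  obtain ⟨M, hM⟩ : ∃ M, M = T ⊓ normalizerIn S X := ⟨_, rfl⟩
  rw [← hM]
  let K : Subgroup (MulAut R) :=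
    { carrier := {β | ∀ x ∈ R, x⁻¹ * apl β x ∈ M}
      one_mem' := fun x hx => by rw [apl_one hx, inv_mul_cancel]; exact M.one_mem
      mul_mem' := fun {β γ} hβ hγ x hx => by
        rw [apl_mul _ _ hx]
        have h := M.mul_mem (hγ x hx) (hβ _ (apl_mem γ hx))
        rwa [mul_assoc, mul_inv_cancel_left] at h
      inv_mem' := fun {β} hβ x hx => by
        have h := M.inv_mem (hβ _ (apl_mem β⁻¹ hx))
        rwa [apl_apl_inv β hx, mul_inv_rev, inv_inv] at h }
  refine residual_le_iff hR (K := K) (fun β hβ hco x hx => hM ▸ ⟨?_, ?_⟩) ⟨α, hα, rfl⟩ x x.2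
  · have hRS : R ≤ S := hR.trans inf_le_left
    have hβD : β ∈ (prodSys p F E).autGroup R :=
      (mem_autGroup_iff hRS).2 ⟨((mor_ND hyp hX hN).1 (iso_apl hR hβ).1).1, (iso_apl hR hβ).2⟩
    exact (hyp.coprime_prod hRS hβD hco).1 x hx
  · exact Subgroup.mul_mem _ (Subgroup.inv_mem _ (hR hx)) (hR (apl_mem β hx))

/-- An automorphism of `Q ⊔ X` in the product system stabilizing both gives one of its normalizer. -/
theorem mem_ND (hQ : Q ≤ normalizerIn S X) {η : MulAut ↥(Q ⊔ X)} {γ : MulAut Q}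
    (hη : η ∈ (prodSys p F E).autGroup (Q ⊔ X)) (hηx : ∀ x ∈ Q, apl η x = apl γ x)
    (hηX : ∀ x ∈ X, apl η x ∈ X) :
    γ ∈ (normalizerSys (prodSys p F E) hX.1).autGroup Q := by
  have hW : Q ⊔ X ≤ S := sup_le (hQ.trans inf_le_left) hX.1
  have hm := (iso_apl hW hη).1
  haveI := finite_of_le (hQ.trans (inf_le_left : normalizerIn S X ≤ S))
  have hmQ : Mor (prodSys p F E) Q (apl γ) :=
    (hm.mono le_sup_left).congr fun x hx => (hηx x hx).symm
  have hiX : Iso (prodSys p F E) X X (apl η) := AM.iso_of_stable (hm.mono le_sup_right) hηX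
  refine (mem_autGroup_iff hQ).2 ⟨(mor_ND hyp hX hN).2 ⟨hmQ, hQ, fun x hx => hQ (apl_mem γ hx),
    apl η, hm, hηx, fun y => hiX.2 y⟩,
    (AM.iso_of_stable hmQ fun x hx => apl_mem γ hx).2⟩

/-- A map of `N` extends to an isomorphism on the join with `X`. -/
theorem exists_iso_sup (hi : Iso N P Q f) : ∃ k, Iso F (P ⊔ X) (Q ⊔ X) k ∧
    (∀ x ∈ P, k x = f x) ∧ ∀ y, y ∈ X ↔ ∃ x ∈ X, k x = y := by
  obtain ⟨hfF, -, -, k, hk, hkf, hkX⟩ := (mor_normalizerSystem hN).1 hi.1
  refine ⟨k, ⟨hk, fun y => ⟨fun hy => ?_, ?_⟩⟩, hkf, hkX⟩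
  · obtain ⟨W, hW⟩ := hk.exists_iso
    have hle : Q ⊔ X ≤ W := sup_le
      (fun z hz => by
        obtain ⟨x, hx, rfl⟩ := hi.exists_eq hz
        rw [← hkf x hx]
        exact hW.mem (Subgroup.mem_sup_left hx))
      (fun z hz => by
        obtain ⟨x, hx, rfl⟩ := (hkX z).1 hz
        exact hW.mem (Subgroup.mem_sup_right hx))
    exact hW.exists_eq (hle hy)
  · rintro ⟨x, hx, rfl⟩
    exact hk.mem_of_sup (fun a ha => Subgroup.mem_sup_left (by rw [hkf a ha]; exact hi.mem ha))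
      (fun a ha => Subgroup.mem_sup_right ((hkX _).2 ⟨a, ha, rfl⟩)) hx

theorem conj_coprime_mem_ND (hi : Iso N P Q f) {α : MulAut P}
    (hα : α ∈ (normalizerSys (prodSys p F E) hX.1).autGroup P) (hco : (orderOf α).Coprime p) :
    hi.conjAut α ∈ (normalizerSys (prodSys p F E) hX.1).autGroup Q := by
  have hP : P ≤ normalizerIn S X := hi.left_le
  obtain ⟨h1, -, -, k₀, hk₀, hk₀α, hk₀X⟩ := (mor_ND hyp hX hN).1 (iso_apl hP hα).1
  have hW : P ⊔ X ≤ S := sup_le (hP.trans inf_le_left) hX.1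
  haveI := finite_of_le hW
  have hst : ∀ x ∈ P ⊔ X, k₀ x ∈ P ⊔ X := fun x hx => hk₀.mem_of_sup
    (fun a ha => Subgroup.mem_sup_left (by rw [hk₀α a ha]; exact apl_mem α ha))
    (fun a ha => Subgroup.mem_sup_right ((hk₀X _).2 ⟨a, ha, rfl⟩)) hx
  obtain ⟨β, hβ, hβx⟩ := (AM.iso_of_stable hk₀ hst).exists_mem_autGroup
  have hβs : β ∈ AM.stab (P ⊔ X) X := AM.mem_stab.2 fun x hxW hx => by
    rw [hβx x hxW]
    exact (hk₀X _).2 ⟨x, hx, rfl⟩
  obtain ⟨η, hη, -, hηco, hηx⟩ := AM.exists_coprime_ext (le_sup_left : P ≤ P ⊔ X)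
    (Γ := (prodSys p F E).autGroup (P ⊔ X) ⊓ AM.stab (P ⊔ X) X) ⟨hβ, hβs⟩
    (fun x hx => by rw [hβx x (Subgroup.mem_sup_left hx), hk₀α x hx]) hco
  obtain ⟨k, hk, hkf, hkX⟩ := exists_iso_sup hyp hX hN hi
  refine mem_ND hyp hX hN hi.right_le (hyp.conjAut_mem_prod hk hη.1 hηco)
    (fun y hy => ?_) (fun y hy => ?_)
  · obtain ⟨x, hx, rfl⟩ := hi.exists_eq hy
    rw [hi.conjAut_apl α hx, ← hkf x hx, hk.conjAut_apl η (Subgroup.mem_sup_left hx), hηx x hx,
      hkf _ (apl_mem α hx)]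
  · obtain ⟨x, hx, rfl⟩ := (hkX y).1 hy
    have hxW : x ∈ P ⊔ X := Subgroup.mem_sup_right hx
    rw [hk.conjAut_apl η hxW]
    exact (hkX _).2 ⟨_, AM.mem_stab.1 hη.2 x hxW hx, rfl⟩

theorem conj_T_mem_ND (hi : Iso N P Q f) {t : Ω} (ht : t ∈ T ⊓ normalizerIn S X) {α : MulAut P}
    (hαx : ∀ x ∈ P, apl α x = t * x * t⁻¹) :
    hi.conjAut α ∈ (normalizerSys (prodSys p F E) hX.1).autGroup Q := by
  have hP : P ≤ normalizerIn S X := hi.left_le
  have hW : P ⊔ X ≤ S := sup_le (hP.trans inf_le_left) hX.1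
  haveI := finite_of_le hW
  have htX : ∀ x ∈ X, t * x * t⁻¹ ∈ X := fun x hx => (Subgroup.mem_normalizer_iff.1 ht.2.2 x).1 hx
  have hm : Mor F (P ⊔ X) (fun y => t * y * t⁻¹) := mor_conj hW (hyp.T_le ht.1)
  have hst : ∀ x ∈ P ⊔ X, t * x * t⁻¹ ∈ P ⊔ X := fun x hx => hm.mem_of_sup
    (fun a ha => Subgroup.mem_sup_left (hαx a ha ▸ apl_mem α ha))
    (fun a ha => Subgroup.mem_sup_right (htX a ha)) hx
  obtain ⟨c, hc, hcx⟩ := (AM.iso_of_stable hm hst).exists_mem_autGroup
  obtain ⟨k, hk, hkf, hkX⟩ := exists_iso_sup hyp hX hN hi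
  refine mem_ND hyp hX hN hi.right_le (hyp.conj_T_mem_prod hk ht.1 hcx)
    (fun y hy => ?_) (fun y hy => ?_)
  · obtain ⟨x, hx, rfl⟩ := hi.exists_eq hy
    rw [hi.conjAut_apl α hx, ← hkf x hx, hk.conjAut_apl c (Subgroup.mem_sup_left hx),
      hcx x (Subgroup.mem_sup_left hx), ← hαx x hx, hkf _ (apl_mem α hx)]
  · obtain ⟨x, hx, rfl⟩ := (hkX y).1 hy
    have hxW : x ∈ P ⊔ X := Subgroup.mem_sup_right hx
    rw [hk.conjAut_apl c hxW, hcx x hxW]
    exact (hkX _).2 ⟨_, htX x hx, rfl⟩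

variable {Y : FusionSystem (T ⊓ normalizerIn S X)} (hY : Y.IsSaturated p)
variable (hYi : Y.HasPPowerIndexIn (normalizerSys (prodSys p F E) hX.1) p)
include hY hYi

theorem Y_sub_N : Y.IsSubsystemOf N := fun P _ h => ND_sub hyp hX hN P (hYi.1 P h)

theorem Y_transInv : TransInv Y N := by
  haveI : Finite (normalizerIn S X) := finite_of_le inf_le_left
  haveI : Finite ↥(T ⊓ normalizerIn S X) := finite_of_le inf_le_right
  have hsc := scTX hyp hX hN
  have hTN : T ⊓ normalizerIn S X ≤ normalizerIn S X := inf_le_right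
  have hpY : IsPGroup p ↥(T ⊓ normalizerIn S X) := (pNS hyp hX hN).to_le hTN
  obtain ⟨M, hM⟩ : ∃ M, M = T ⊓ normalizerIn S X := ⟨_, rfl⟩
  let Rel : Subgroup Ω → (Ω → Ω) → Prop := fun P f => P ≤ T ⊓ normalizerIn S X ∧
    (∀ x ∈ P, f x ∈ T ⊓ normalizerIn S X) ∧ ∀ β ∈ N.autGroup (T ⊓ normalizerIn S X), ∃ k,
      Mor Y ((P.subgroupOf (T ⊓ normalizerIn S X)).map
        ((T ⊓ normalizerIn S X).subtype.comp β.toMonoidHom)) k ∧
      ∀ x ∈ P, k (apl β x) = apl β (f x)
  have himg : ∀ {P : Subgroup Ω}, P ≤ T ⊓ normalizerIn S X → ∀ β : MulAut ↥(T ⊓ normalizerIn S X),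
      (P.subgroupOf (T ⊓ normalizerIn S X)).map
        ((T ⊓ normalizerIn S X).subtype.comp β.toMonoidHom) ≤ T ⊓ normalizerIn S X :=
    fun {P} hP β y hy => by
      obtain ⟨x, hx, rfl⟩ := (map_apl_eq hP).1 hy
      exact apl_mem β (hP hx)
  have hR : SubRel Y (T ⊓ normalizerIn S X) Rel :=
    { congr := by
        rintro P f g ⟨h1, h2, h3⟩ he
        refine ⟨h1, fun x hx => by rw [he x hx]; exact h2 x hx, fun β hβ => ?_⟩
        obtain ⟨k, hk, hkx⟩ := h3 β hβ
        exact ⟨k, hk, fun x hx => by rw [he x hx]; exact hkx x hx⟩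
      le := fun h => ⟨h.1, h.2.1⟩
      conj := by
        intro P s hP hs
        refine ⟨mor_conj hP hs, hP, fun x hx =>
          Subgroup.mul_mem _ (Subgroup.mul_mem _ hs (hP hx)) (Subgroup.inv_mem _ hs), fun β hβ =>
          ⟨_, mor_conj (himg hP β) (apl_mem β hs), fun x hx => ?_⟩⟩
        exact ((iso_apl (F := N) hTN hβ).1.map_conj hs (hP hx)).symm
      comp := by
        rintro P Q f g - ⟨h1, h2, h3⟩ - ⟨h1', h2', h3'⟩ hfQ
        refine ⟨h1, fun x hx => h2' _ (hfQ x hx), fun β hβ => ?_⟩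
        obtain ⟨k, hk, hkx⟩ := h3 β hβ
        obtain ⟨l, hl, hlx⟩ := h3' β hβ
        refine ⟨l ∘ k, hk.comp hl fun y hy => ?_, fun x hx => ?_⟩
        · obtain ⟨x, hx, rfl⟩ := (map_apl_eq h1).1 hy
          exact (map_apl_eq h1').2 ⟨f x, hfQ x hx, (hkx x hx).symm⟩
        · show l (k _) = _
          rw [hkx x hx, hlx _ (hfQ x hx)]
          rfl
      inv := by
        rintro P Q f g hf ⟨h1, h2, h3⟩ hg hgf
        have hQT : Q ≤ T ⊓ normalizerIn S X := hg.left_le
        refine ⟨hQT, fun y hy => h1 (hg.mem hy), fun β hβ => ?_⟩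
        obtain ⟨k, hk, hkx⟩ := h3 β hβ
        obtain ⟨R, hR⟩ := hk.exists_iso
        obtain ⟨l, hl, hlk, -⟩ := hR.symm
        refine ⟨l, hl.1.mono fun y hy => ?_, fun y hy => ?_⟩
        · obtain ⟨z, hz, rfl⟩ := (map_apl_eq hQT).1 hy
          obtain ⟨x, hx, rfl⟩ := hf.exists_eq hz
          rw [← hkx x hx]
          exact hR.mem ((map_apl_eq h1).2 ⟨x, hx, rfl⟩)
        · obtain ⟨x, hx, rfl⟩ := hf.exists_eq hy
          rw [← hkx x hx, hlk _ ((map_apl_eq h1).2 ⟨x, hx, rfl⟩), hgf x hx] }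
  have hall : ∀ P f, Mor Y P f → Rel P f := alperin_induction hpY hY hR fun R hRe α hα => by
    have hRT : R ≤ T ⊓ normalizerIn S X := hRe.elim (fun e => e.le) fun e => e.1.1
    have hRn : Y.IsFullyNormalized R := by
      rcases hRe with rfl | h
      · haveI := finite_of_le (normalizerIn_le (T ⊓ normalizerIn S X) (T ⊓ normalizerIn S X))
        exact ⟨le_rfl, fun Q _ => Subgroup.card_le_of_le
          (le_inf (normalizerIn_le _ Q) ((normalizerIn_le _ Q).trans Subgroup.le_normalizer))⟩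
      · exact h.2.1
    haveI : Finite R := finite_of_le (S := T ⊓ normalizerIn S X) hRT
    suffices h : Y.autGroup R ≤ (subSys hR).autGroup R from
      ((mor_subSys hR).1 (iso_apl hRT (h hα)).1).2
    rw [autGroup_eq_residual_sup hpY hY hRn]
    refine sup_le ?_ (autInducedBy_le_autGroup hRT)
    rw [pResidual, MonoidHom.map_closure, Subgroup.closure_le]
    rintro _ ⟨b, hb, rfl⟩
    rw [Set.mem_setOf_eq, ← Subgroup.orderOf_coe] at hb
    have hbi := iso_apl hRT b.2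
    refine (mem_autGroup_iff hRT).2 ⟨(mor_subSys hR).2 ⟨hbi.1, hRT,
      fun x hx => hRT (apl_mem _ hx), fun β hβ => ?_⟩, hbi.2⟩
    have hi : Iso N R ((R.subgroupOf (T ⊓ normalizerIn S X)).map
        ((T ⊓ normalizerIn S X).subtype.comp β.toMonoidHom)) (apl β) :=
      ⟨(iso_apl hTN hβ).1.mono hRT, fun _ => map_apl_eq hRT⟩
    have h1 := conj_coprime_mem_ND hyp hX hN hi (autGroup_le_of_sub hYi.1 b.2) hb
    have h2 := coprime_mem_of_index hYi (himg hRT β) hTN h1
      (by rw [AM.orderOf_conjAut]; exact hb)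
    exact ⟨_, (iso_apl (himg hRT β) h2).1, fun x hx => hi.conjAut_apl _ hx⟩
  intro P f hf β hβ
  exact (hall P f hf).2.2 β hβ

theorem Y_frattini : ∀ (P : Subgroup Ω), P ≤ T ⊓ normalizerIn S X → ∀ f, Mor N P f →
    FrattiniRel Y N P f := by
  obtain ⟨W, hW⟩ : ∃ W, W = T ⊓ normalizerIn S X := ⟨_, rfl⟩
  haveI : Finite (normalizerIn S X) := finite_of_le inf_le_left
  haveI : Finite ↥(T ⊓ normalizerIn S X) := finite_of_le inf_le_right
  have hS := pNS hyp hX hN
  have hF : N.IsSaturated p := normalizerSystem_saturated hyp.pS hyp.sat hX hN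
  have hT := scTX hyp hX hN
  have hC : TransInv Y N := @fun P f => Y_transInv hyp hX hN hY hYi
  have hTp : IsPGroup p ↥(T ⊓ normalizerIn S X) := hS.to_le inf_le_right
  suffices H : ∀ d, ∀ P : Subgroup Ω, P ≤ T ⊓ normalizerIn S X →
      Nat.card ↥(T ⊓ normalizerIn S X) - Nat.card P ≤ d → ∀ f, Mor N P f → FrattiniRel Y N P f from
    fun P hP f hf => H _ P hP le_rfl f hf
  intro d
  induction d using Nat.strong_induction_on with
  | _ d ih =>
    intro P hP hd f hf
    by_cases hPT : P = T ⊓ normalizerIn S X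
    · subst hPT
      obtain ⟨β, hβ, hβx⟩ := (StronglyClosed.iso_self hT hf le_rfl).exists_mem_autGroup
      exact ⟨β, hβ, id, mor_id le_rfl, fun x hx => (hβx x hx).symm⟩
    have hbig : ∀ (R D : Subgroup Ω) (g : Ω → Ω), Nat.card R = Nat.card P → R < D → D ≤ T ⊓ normalizerIn S X →
        Mor N D g → FrattiniRel Y N R g := fun R D g hc hlt hD hg => by
      refine FrattiniRel.mono (ih (Nat.card ↥(T ⊓ normalizerIn S X) - Nat.card D) ?_ D hD le_rfl g hg)
        hlt.le
      have h1 := card_lt_of_lt' (hD.trans inf_le_right) hlt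
      have h2 : Nat.card D ≤ Nat.card ↥(T ⊓ normalizerIn S X) := Subgroup.card_le_of_le hD
      omega
    have hlt : ∀ R : Subgroup Ω, R ≤ T ⊓ normalizerIn S X → Nat.card R = Nat.card P →
        R < normalizerIn (T ⊓ normalizerIn S X) R := by
      intro R hR hc
      refine lt_inf_normalizer hTp le_rfl (lt_of_le_of_ne hR fun e => hPT ?_)
      exact Subgroup.eq_of_le_of_card_ge hP (le_of_eq (e ▸ hc))
    have hPN : P ≤ normalizerIn S X := hP.trans inf_le_right
    obtain ⟨P₁, k, hP₁n, hk, hki, -⟩ := exists_fullyNormalized_mor hS hF hPN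
    have hP₁T : P₁ ≤ T ⊓ normalizerIn S X := AM.iso_le_T hT hki hP
    have hstep : ∀ R g, R ≤ T ⊓ normalizerIn S X → Nat.card R = Nat.card P →
        Mor N (normalizerIn (normalizerIn S X) R) g → FrattiniRel Y N R g := fun R g hR hc hg =>
      hbig R _ g hc (hlt R hR hc) (normalizerIn_le _ _)
        (hg.mono (inf_le_inf_right _ inf_le_right))
    obtain ⟨P₂, hP₂⟩ := hf.exists_iso
    obtain ⟨k₂, hk₂, hk₂i, -⟩ :=
      exists_mor_to_fullyNormalized hS hF hP₁n (isConj_trans (isConj_symm hP₂.isConj) hki.isConj)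
    have hP₂T : P₂ ≤ T ⊓ normalizerIn S X := AM.iso_le_T hT hP₂ hP
    have hF1 : FrattiniRel Y N P k := hstep P k hP rfl hk
    have hF2 : FrattiniRel Y N P₂ k₂ := hstep P₂ k₂ hP₂T hP₂.card_eq.symm hk₂
    obtain ⟨k', hk', hk'l, hk'r⟩ := hki.symm
    obtain ⟨k₂', hk₂', hk₂'l, -⟩ := hk₂i.symm
    obtain ⟨a, ha, hax⟩ := ((hk'.comp hP₂).comp hk₂i).exists_mem_autGroup
    haveI := finite_of_le hP₁n.1
    haveI : Finite (MulAut P₁) := Finite.of_injective _ MulEquiv.toEquiv_injective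
    obtain ⟨-, U, hU⟩ := fullyAutomized_of_fullyNormalized hS hF hP₁n
    let A : Subgroup (N.autGroup P₁) := Subgroup.normalClosure
      (((autInducedBy (T ⊓ normalizerIn S X) P₁).subgroupOf (N.autGroup P₁) : Subgroup _) :
        Set (N.autGroup P₁))
    have hAD : A ≤ ((normalizerSys (prodSys p F E) hX.1).autGroup P₁).subgroupOf (N.autGroup P₁) := by
      refine (Subgroup.closure_le _).2 fun x hx => ?_
      obtain ⟨c, hc, hconj⟩ := Group.mem_conjugatesOfSet_iff.1 hx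
      obtain ⟨b, rfl⟩ := _root_.isConj_iff.1 hconj
      obtain ⟨t, ht, -, htx⟩ := mem_autInducedBy_iff.1 (Subgroup.mem_subgroupOf.1 hc)
      have h1 := conj_T_mem_ND hyp hX hN (iso_apl hP₁n.1 b.2) ht htx
      rw [AM.conjAut_apl_iso hP₁n.1 b.2] at h1
      exact Subgroup.mem_subgroupOf.2 h1
    obtain ⟨n, hn, e, he, hne⟩ := exists_split U A (⟨a, ha⟩ : N.autGroup P₁)
    have heY : (e : MulAut P₁) ∈ Y.autGroup P₁ := by
      clear hne
      induction he using Subgroup.closure_induction with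
      | mem z hz =>
        exact coprime_mem_of_index hYi hP₁T inf_le_right (Subgroup.mem_subgroupOf.1 (hAD hz.1))
          (by rw [Subgroup.orderOf_coe]; exact hz.2)
      | one => exact one_mem _
      | mul y z _ _ hy hz => exact mul_mem hy hz
      | inv y _ hy => exact Subgroup.inv_mem _ hy
    have hFe : FrattiniRel Y N P₁ (apl (e : MulAut P₁)) :=
      ⟨1, Subgroup.one_mem _, _, (iso_apl hP₁T heY).1, fun x hx =>
        (apl_one (hP₁T (apl_mem _ hx))).symm⟩
    have hFn : FrattiniRel Y N P₁ (apl (n : MulAut P₁)) := by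
      have hni := iso_apl (F := N) hP₁n.1 n.2
      obtain ⟨g, hg, hgn⟩ :=
        (isReceptive_iff.1 (receptive_of_fullyNormalized hS hF hP₁n)).2 P₁ _ hni
      have hle : normalizerIn (T ⊓ normalizerIn S X) P₁ ≤
          nPhi (normalizerIn S X) P₁ (apl (n : MulAut P₁)) := by
        rintro t ⟨htT, htn⟩
        obtain ⟨c, hc, hcx⟩ := exists_mem_autInducedBy (K := T ⊓ normalizerIn S X) (P := P₁) htT htn
        have hcS : c ∈ autInducedBy (normalizerIn S X) P₁ := autInducedBy_mono inf_le_right hc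
        have hcF : c ∈ N.autGroup P₁ := autInducedBy_le_autGroup hP₁n.1 hcS
        have hcU : (⟨c, hcF⟩ : N.autGroup P₁) ∈ (U : Subgroup (N.autGroup P₁)) ⊓ A :=
          ⟨hU.ge (Subgroup.mem_subgroupOf.2 hcS), Subgroup.subset_normalClosure hc⟩
        have h2 := Subgroup.mem_subgroupOf.1
          (hU.le ((Subgroup.mem_normalizer_iff.1 hn _).1 hcU).1)
        obtain ⟨h, hh, -, hhx⟩ := mem_autInducedBy_iff.1 h2
        refine mem_nPhi.2 ⟨htT.2, htn, h, hh, fun x hx => ?_⟩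
        rw [← hhx _ (apl_mem _ hx)]
        show _ = apl ((n : MulAut P₁) * c * (n : MulAut P₁)⁻¹) _
        rw [apl_mul _ _ (apl_mem _ hx), apl_inv_apl _ hx, apl_mul _ _ hx, hcx x hx]
      exact (hbig P₁ _ g hki.card_eq.symm (hlt P₁ hP₁T hki.card_eq.symm) (normalizerIn_le _ _)
        (hg.mono hle)).congr fun x hx => (hgn x hx).symm
    have hFa : FrattiniRel Y N P₁ (apl a) := (FrattiniRel.comp' hC hP₁T hFe hFn
      fun x hx => apl_mem _ hx).congr fun x hx => by
        show apl a x = apl (n : MulAut P₁) (apl (e : MulAut P₁) x)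
        rw [← apl_mul _ _ hx]
        exact congrArg (fun b : N.autGroup P₁ => apl (b : MulAut P₁) x) hne.symm
    have hF2' : FrattiniRel Y N P₁ k₂' := FrattiniRel.inv' hC hk₂i hF2 hk₂'l
    refine (FrattiniRel.comp' hC hP₁T (FrattiniRel.comp' hC hP₁T hF1 hFa fun x hx => hki.mem hx)
      hF2' fun x hx => apl_mem a (hki.mem hx)).congr fun x hx => ?_
    show f x = k₂' (apl a (k x))
    rw [hax _ (hki.mem hx)]
    show f x = k₂' (k₂ (f (k' (k x))))
    rw [hk'l x hx, hk₂'l _ (hP₂.mem hx)]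

theorem Y_weaklyNormal : Y.IsWeaklyNormalIn N p :=
  ⟨hY, normalizerSystem_saturated hyp.pS hyp.sat hX hN,
    invariant_of_mor (Y_sub_N hyp hX hN hY hYi) (scTX hyp hX hN)
      (fun _ _ hf _ hβ => Y_transInv hyp hX hN hY hYi hf hβ)
      fun P f hP hf => Y_frattini hyp hX hN hY hYi P hP f hf⟩

theorem Y_sub_E : Y.IsSubsystemOf E := by
  haveI := hyp.finite_T
  haveI : Finite ↥(T ⊓ normalizerIn S X) := finite_of_le inf_le_left
  refine sub_of_mor (mor_of_generators (hyp.pT.to_le inf_le_left) hY inf_le_left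
    fun R hR _ α hα hco => ?_)
  have hRS : R ≤ S := (hR.trans inf_le_left).trans hyp.T_le
  have hRN : R ≤ normalizerIn S X := hR.trans inf_le_right
  have hαN : α ∈ (normalizerSys (prodSys p F E) hX.1).autGroup R := autGroup_le_of_sub hYi.1 hα
  exact coprime_mem_of_index hyp.prod_index (hR.trans inf_le_left) hyp.T_le
    ((mem_autGroup_iff hRS).2 ⟨((mor_ND hyp hX hN).1 (iso_apl hRN hαN).1).1, (iso_apl hRN hαN).2⟩)
    hco

omit hY hYi in
/-- The normal subsystem over the part in `T`. -/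
theorem exists_normal_part : ∃ W : FusionSystem (T ⊓ normalizerIn S X),
    W.IsNormalIn N p ∧ W.IsSubsystemOf E := by
  haveI : Finite (normalizerIn S X) := finite_of_le inf_le_left
  haveI : Finite ↥(T ⊓ normalizerIn S X) := finite_of_le inf_le_right
  obtain ⟨Y, ⟨hY, hYi⟩, -⟩ := PPI.exists_unique_pPower (pNS hyp hX hN) (ND_sat hyp hX hN)
    inf_le_right (ND_hyp_le hyp hX hN)
  refine ⟨_, pPrimeResidual_normal (pNS hyp hX hN) (Y_weaklyNormal hyp hX hN hY hYi), ?_⟩
  exact fun P φ hφ => Y_sub_E hyp hX hN hY hYi P (clsSys_le goodGam_gamMin P hφ)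

end Cfsg.Agent.FusSys.EBal
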